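import Groth.Agent.Lib.BlowUpExist.Chart

/-!
# Locality of effective Cartier conditions
-/

universe u

open CategoryTheory CategoryTheory.Limits AlgebraicGeometry

namespace Groth.Agent.BlowUpExist

open AlgebraicGeometry.Scheme.IdealSheafData

variable {X Y : Scheme.{u}}

lemma comap_pow (I : X.IdealSheafData) (φ : Y ⟶ X) (n : ℕ) : (I ^ n).comap φ = I.comap φ ^ n := by
  induction n with
  | zero => rw [pow_zero, pow_zero, one_eq_top, comap_top, one_eq_top]
  | succ n ih => rw [pow_succ, pow_succ, EffCartier.comap_mul, ih]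

lemma isEffCartierIdeal_pow {I : X.IdealSheafData} (h : BlowUp.IsEffCartierIdeal I) (n : ℕ) :
    BlowUp.IsEffCartierIdeal (I ^ n) := by
  induction n with
  | zero => rw [pow_zero, one_eq_top]; exact EffCartier.isEffCartierIdeal_top
  | succ n ih => rw [pow_succ]; exact EffCartier.isEffCartierIdeal_mul ih h

lemma isEffCartierIdeal_of_pow {I : X.IdealSheafData} {n : ℕ} (h : BlowUp.IsEffCartierIdeal (I ^ (n + 1))) :
    BlowUp.IsEffCartierIdeal I := by
  rw [pow_succ'] at h
  exact EffCartier.isEffCartierIdeal_of_mul_left h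

/-- Ideal sheaves are equal as soon as they are equal on an open cover. -/
lemma eq_of_cover {ι : Type*} {Xs : ι → Scheme.{u}} (f : ∀ i, Xs i ⟶ X) [∀ i, IsOpenImmersion (f i)]
    (hcov : ∀ x, ∃ i y, f i y = x) {I J : X.IdealSheafData} (h : ∀ i, I.comap (f i) = J.comap (f i)) : I = J := by
  refine EffCartier.eq_of_forall_exists fun x => ?_
  obtain ⟨i, y, rfl⟩ := hcov x
  obtain ⟨_, ⟨V, hV, rfl⟩, hyV, -⟩ :=
    (Xs i).isBasis_affineOpens.exists_subset_of_mem_open (Set.mem_univ y) isOpen_univ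
  refine ⟨⟨f i ''ᵁ V, IsAffineOpen.image_of_isOpenImmersion hV (f i)⟩, ⟨y, hyV, rfl⟩, ?_⟩
  have h' := congrArg (fun A => A.ideal ⟨V, hV⟩) (h i)
  simp only [ideal_comap_of_isOpenImmersion] at h'
  exact Ideal.comap_injective_of_surjective _ (ConcreteCategory.bijective_of_isIso ((f i).appIso V).inv).2 h'

/-- Being effective Cartier is local. -/
lemma isEffCartierIdeal_of_cover {ι : Type*} {Xs : ι → Scheme.{u}} (f : ∀ i, Xs i ⟶ X)
    [∀ i, IsOpenImmersion (f i)] (hcov : ∀ x, ∃ i y, f i y = x) {I : X.IdealSheafData}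
    (h : ∀ i, BlowUp.IsEffCartierIdeal (I.comap (f i))) : BlowUp.IsEffCartierIdeal I := by
  refine EffCartier.isEffCartierIdeal_iff.mpr fun x => ?_
  obtain ⟨i, y, rfl⟩ := hcov x
  obtain ⟨V, hyV, a, ha⟩ := EffCartier.isEffCartierIdeal_iff.mp (h i) y
  let e := ((f i).appIso V.1).inv
  have he : Function.Bijective e := ConcreteCategory.bijective_of_isIso e
  refine ⟨⟨f i ''ᵁ V.1, V.2.image_of_isOpenImmersion (f i)⟩, ⟨y, hyV, rfl⟩, e a, ?_, ?_⟩
  · rw [mem_nonZeroDivisors_iff_right]
    intro z hz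
    obtain ⟨w, rfl⟩ := he.2 z
    rw [← map_mul] at hz
    rw [(mem_nonZeroDivisors_iff_right.mp ha.mem) w (he.1 (hz.trans (map_zero e.hom).symm)), map_zero]
  · have h' := ha.ideal_eq
    rw [ideal_comap_of_isOpenImmersion] at h'
    have h'' := congrArg (Ideal.map e.hom) h'
    rw [Ideal.map_comap_of_surjective _ he.2, Ideal.map_span, Set.image_singleton] at h''
    exact h''

end Groth.Agent.BlowUpExist
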