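import Groth.Agent.Lib.BlowUpExist.Local
import Mathlib.AlgebraicGeometry.Gluing

/-!
# Existence of blowing ups
-/

universe u

open CategoryTheory CategoryTheory.Limits AlgebraicGeometry TopologicalSpace

namespace Groth.Agent.BlowUpExist

open AlgebraicGeometry.Scheme.IdealSheafData

variable {X : Scheme.{u}} (C : X.IdealSheafData)

/-- The index of a chart: an affine open, a degree and a section of that power of the ideal. -/
structure ChartIdx : Type u where
  U : X.affineOpens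
  n : ℕ
  c : Γ(X, U.1)
  mem : c ∈ (C ^ (n + 1)).ideal U

variable {C} {Y Z : Scheme.{u}}

namespace ChartIdx

variable (i : ChartIdx C)

instance : IsAffine i.U.1.toScheme := i.U.2

/-- The power of the centre on the affine open. -/
noncomputable abbrev J : i.U.1.toScheme.IdealSheafData := (C ^ (i.n + 1)).comap i.U.1.ι

/-- The chosen section as a global function of the affine open. -/
noncomputable abbrev sec : Γ(i.U.1.toScheme, ⊤) := i.U.1.topIso.inv i.c

lemma J_ideal_top : i.J.ideal ⟨⊤, isAffineOpen_top _⟩ =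
    ((C ^ (i.n + 1)).ideal i.U).map i.U.1.topIso.inv.hom := by
  rw [EffCartier.comap_ideal (C ^ (i.n + 1)) i.U.1.ι i.U ⟨⊤, isAffineOpen_top _⟩ (fun x _ => x.2)]
  congr 2
  simp [Scheme.Opens.ι_appLE, Scheme.Opens.topIso_inv]
  rfl

lemma sec_mem : i.sec ∈ i.J.ideal ⟨⊤, isAffineOpen_top _⟩ := by
  rw [J_ideal_top]
  exact Ideal.mem_map_of_mem _ i.mem

lemma principal_le : principal i.sec ≤ i.J :=
  le_of_isAffine (by
    simp only [principal, ofIdealTop_ideal]
    erw [CategoryTheory.Functor.map_id]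
    rw [CommRingCat.hom_id, Ideal.map_id, Ideal.span_singleton_le_iff_mem]
    exact i.sec_mem)

/-- The scheme of the chart. -/
noncomputable abbrev obj : Scheme.{u} := chart i.J i.sec

/-- The structure morphism of the chart. -/
noncomputable def π : i.obj ⟶ X := chartπ i.J i.sec ≫ i.U.1.ι

/-- The functor represented by the chart. -/
def Mem (g : Y ⟶ X) : Prop :=
  BlowUp.IsEffCartierIdeal (C.comap g) ∧
    ∃ g' : Y ⟶ i.U.1.toScheme, g' ≫ i.U.1.ι = g ∧ (principal i.sec).comap g' = i.J.comap g'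

variable {i}

lemma chartCond_of_mem {g : Y ⟶ X} {g' : Y ⟶ i.U.1.toScheme} (hg : i.Mem g) (h : g' ≫ i.U.1.ι = g) :
    ChartCond i.J i.sec g' := by
  obtain ⟨hEC, g'', hg'', heq⟩ := hg
  obtain rfl : g'' = g' := (cancel_mono i.U.1.ι).mp (hg''.trans h.symm)
  refine ⟨?_, heq⟩
  rw [← comap_comp, h, comap_pow]
  exact isEffCartierIdeal_pow hEC _

lemma mem_π : i.Mem i.π := by
  obtain ⟨hEC, heq⟩ := chartCond_chartπ i.J i.sec i.sec_mem
  refine ⟨?_, chartπ i.J i.sec, rfl, heq⟩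
  rw [← comap_comp, comap_pow] at hEC
  exact isEffCartierIdeal_of_pow hEC

lemma existsUnique_lift {g : Y ⟶ X} (hg : i.Mem g) : ∃! k : Y ⟶ i.obj, k ≫ i.π = g := by
  obtain ⟨g', hg', heq⟩ := hg.2
  obtain ⟨k, hk, huniq⟩ := existsUnique_chart_lift i.J i.sec g' (chartCond_of_mem hg hg')
  refine ⟨k, ?_, fun k' hk' => huniq k' ?_⟩
  · show k ≫ chartπ i.J i.sec ≫ i.U.1.ι = g
    rw [← hg', ← Category.assoc, show k ≫ chartπ i.J i.sec = g' from hk]
  · beta_reduce; rw [← cancel_mono i.U.1.ι, hg', Category.assoc]; exact hk'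

lemma hom_ext {g : Y ⟶ X} (hg : i.Mem g) {k k' : Y ⟶ i.obj} (h : k ≫ i.π = g) (h' : k' ≫ i.π = g) : k = k' :=
  (existsUnique_lift hg).unique h h'

lemma Mem.restrict {g : Y ⟶ X} (hg : i.Mem g) (j : Z ⟶ Y) [IsOpenImmersion j] : i.Mem (j ≫ g) := by
  obtain ⟨hEC, g', hg', heq⟩ := hg
  refine ⟨by rw [comap_comp]; exact isEffCartierIdeal_comap_of_isOpenImmersion hEC j, j ≫ g', ?_, ?_⟩
  · rw [Category.assoc, hg']
  · simp only [comap_comp] at heq ⊢; rw [heq]

lemma mem_of_cover {ι : Type u} {Ys : ι → Scheme.{u}} (f : ∀ t, Ys t ⟶ Y) [∀ t, IsOpenImmersion (f t)]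
    (hcov : ∀ y, ∃ t z, f t z = y) {g : Y ⟶ X} (h : ∀ t, i.Mem (f t ≫ g)) : i.Mem g := by
  have hr : Set.range g ⊆ Set.range i.U.1.ι := by
    rintro _ ⟨y, rfl⟩
    obtain ⟨t, z, rfl⟩ := hcov y
    obtain ⟨g', hg', -⟩ := (h t).2
    refine ⟨g' z, ?_⟩
    rw [← Scheme.Hom.comp_apply, hg', Scheme.Hom.comp_apply]
  refine ⟨isEffCartierIdeal_of_cover f hcov fun t => by rw [← comap_comp]; exact (h t).1,
    IsOpenImmersion.lift i.U.1.ι g hr, IsOpenImmersion.lift_fac _ _ _, eq_of_cover f hcov fun t => ?_⟩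
  obtain ⟨g', hg', heq⟩ := (h t).2
  obtain rfl : g' = f t ≫ IsOpenImmersion.lift i.U.1.ι g hr := by
    rw [← cancel_mono i.U.1.ι, hg', Category.assoc, IsOpenImmersion.lift_fac]
  simp only [comap_comp] at heq ⊢
  exact heq

/-- On the locus where the section generates, the condition of a chart holds. -/
lemma mem_basicOpen_ι (i : ChartIdx C) {g : Y ⟶ X} (hEC : BlowUp.IsEffCartierIdeal (C.comap g))
    {V : Y.affineOpens} (hVU : V.1 ≤ g ⁻¹ᵁ i.U.1) {e : Γ(Y, V.1)}
    (he : EffCartier.IsEqn ((C ^ (i.n + 1)).comap g) V e) (t : Γ(Y, V.1))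
    (ht : g.appLE i.U.1 V.1 hVU i.c = e * t) : i.Mem ((Y.basicOpen t).ι ≫ g) := by
  refine ⟨by rw [comap_comp]; exact isEffCartierIdeal_comap_of_isOpenImmersion hEC _, ?_⟩
  have hOU : Y.basicOpen t ≤ g ⁻¹ᵁ i.U.1 := (Y.basicOpen_le t).trans hVU
  refine ⟨g.resLE i.U.1 (Y.basicOpen t) hOU, Scheme.Hom.resLE_comp_ι _ _, ?_⟩
  have : IsAffine (Y.basicOpen t).toScheme := V.2.basicOpen t
  refine le_antisymm (comap_mono _ i.principal_le) (le_of_isAffine ?_)
  rw [← comap_comp, Scheme.Hom.resLE_comp_ι, comap_comp, ideal_principal_comap_top]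
  rw [EffCartier.comap_ideal_eq_span he (Y.basicOpen t).ι ⟨⊤, isAffineOpen_top _⟩ (fun x _ => Y.basicOpen_le t x.2)]
  rw [Ideal.span_singleton_le_iff_mem, Ideal.mem_span_singleton]
  have hu : IsUnit ((Y.basicOpen t).ι.appLE V.1 ⊤ (fun x _ => Y.basicOpen_le t x.2) t) := by
    have h0 := (RingedSpace.isUnit_res_basicOpen _ t).map
      (Y.presheaf.map (eqToHom (Y.basicOpen t).ι_image_top).op).hom
    rw [Scheme.Opens.ι_appLE]
    erw [← CommRingCat.comp_apply, ← Functor.map_comp] at h0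
    exact h0
  have h3 : (g.resLE i.U.1 (Y.basicOpen t) hOU).appTop i.sec =
      (Y.basicOpen t).ι.appLE V.1 ⊤ (fun x _ => Y.basicOpen_le t x.2) (g.appLE i.U.1 V.1 hVU i.c) := by
    have : i.U.1.topIso.inv ≫ (g.resLE i.U.1 (Y.basicOpen t) hOU).appTop =
        g.appLE i.U.1 V.1 hVU ≫ (Y.basicOpen t).ι.appLE V.1 ⊤ (fun x _ => Y.basicOpen_le t x.2) := by
      rw [Scheme.Hom.appTop, Scheme.Hom.resLE_app_top, Iso.inv_hom_id_assoc, Scheme.Opens.ι_appLE,
        Scheme.Opens.topIso_inv]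
      erw [Scheme.Hom.appLE_map, Scheme.Hom.appLE_map]
    exact DFunLike.congr_fun (congrArg CommRingCat.Hom.hom this) i.c
  rw [h3, ht, map_mul]
  exact hu.mul_right_dvd.mpr dvd_rfl

/-- The condition of a chart is open. -/
lemma exists_nbhd {g : Y ⟶ X} (hEC : BlowUp.IsEffCartierIdeal (C.comap g)) {j : Z ⟶ Y} (hj : i.Mem (j ≫ g))
    (z : Z) : ∃ O : Y.Opens, j z ∈ O ∧ i.Mem (O.ι ≫ g) := by
  obtain ⟨g₀, hg₀, heq₀⟩ := hj.2
  have hzU : g (j z) ∈ i.U.1 := by
    rw [← Scheme.Hom.comp_apply, ← hg₀, Scheme.Hom.comp_apply]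
    exact (g₀ z).2
  have hECn : BlowUp.IsEffCartierIdeal ((C ^ (i.n + 1)).comap g) := by
    rw [comap_pow]; exact isEffCartierIdeal_pow hEC _
  obtain ⟨V, hzV, hVU, e, he⟩ := EffCartier.exists_isEqn hECn (show j z ∈ g ⁻¹ᵁ i.U.1 from hzU)
  have hcm : g.appLE i.U.1 V.1 hVU i.c ∈ Ideal.span {e} := by
    rw [← he.ideal_eq, EffCartier.comap_ideal _ g i.U V hVU]
    exact Ideal.mem_map_of_mem _ i.mem
  obtain ⟨t, ht⟩ := Ideal.mem_span_singleton.mp hcm
  obtain ⟨_, ⟨(V' : Z.Opens), hV', rfl⟩, hzV', hV'V : V' ≤ j ⁻¹ᵁ V.1⟩ :=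
    Z.isBasis_affineOpens.exists_subset_of_mem_open (show z ∈ j ⁻¹ᵁ V.1 from hzV) (j ⁻¹ᵁ V.1).isOpen
  have : IsAffine (Scheme.Opens.toScheme V') := hV'
  obtain ⟨hm, hspan⟩ := (chartCond_iff i.J i.sec (V'.ι ≫ g₀)).mp
    (chartCond_of_mem (hj.restrict V'.ι) (by rw [Category.assoc, hg₀]))
  rw [← EffCartier.comap_ideal_top, ← comap_comp,
    show (V'.ι ≫ g₀) ≫ i.U.1.ι = V'.ι ≫ j ≫ g by rw [Category.assoc, hg₀]] at hspan
  have hunit : IsUnit ((V'.ι ≫ j).appLE V.1 ⊤ (fun x _ => hV'V x.2) t) := by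
    have h1 : ((C ^ (i.n + 1)).comap (V'.ι ≫ j ≫ g)).ideal ⟨⊤, isAffineOpen_top _⟩ =
        Ideal.span {(V'.ι ≫ j).appLE V.1 ⊤ (fun x _ => hV'V x.2) e} := by
      rw [← Category.assoc, comap_comp]
      exact EffCartier.comap_ideal_eq_span he (V'.ι ≫ j) ⟨⊤, isAffineOpen_top _⟩ _
    rw [h1] at hspan
    have h2 : (V'.ι ≫ g₀).appTop i.sec = (V'.ι ≫ j).appLE V.1 ⊤ (fun x _ => hV'V x.2) (g.appLE i.U.1 V.1 hVU i.c) := by
      have : i.U.1.topIso.inv ≫ (V'.ι ≫ g₀).appTop =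
          g.appLE i.U.1 V.1 hVU ≫ (V'.ι ≫ j).appLE V.1 ⊤ (fun x _ => hV'V x.2) := by
        rw [Scheme.Hom.appLE_comp_appLE]
        have hc : (V'.ι ≫ j) ≫ g = (V'.ι ≫ g₀) ≫ i.U.1.ι := by rw [Category.assoc, Category.assoc, hg₀]
        simp only [hc]
        rw [Scheme.Hom.appTop, Scheme.Hom.app_eq_appLE, ← Scheme.Hom.appLE_comp_appLE (V'.ι ≫ g₀) i.U.1.ι i.U.1 ⊤ ⊤
          (fun x _ => x.2) le_rfl]
        congr 1
        simp [Scheme.Opens.ι_appLE, Scheme.Opens.topIso_inv]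
        rfl
      exact DFunLike.congr_fun (congrArg CommRingCat.Hom.hom this) i.c
    rw [h2, ht, map_mul] at hspan hm
    obtain ⟨w, hw⟩ := Ideal.mem_span_singleton.mp (hspan.le (Ideal.subset_span rfl))
    have hme := (mul_mem_nonZeroDivisors.mp hm).1
    exact IsUnit.of_mul_eq_one w ((mul_cancel_left_mem_nonZeroDivisors hme).mp (by rw [← mul_assoc, ← hw, mul_one]))
  have hzt : j z ∈ Y.basicOpen t := by
    have hz' : (⟨z, hzV'⟩ : V'.toScheme) ∈ V'.toScheme.basicOpen ((V'.ι ≫ j).appLE V.1 ⊤ (fun x _ => hV'V x.2) t) := by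
      rw [Scheme.basicOpen_of_isUnit _ hunit]; exact Set.mem_univ _
    rw [Scheme.basicOpen_appLE] at hz'
    exact hz'.2
  exact ⟨Y.basicOpen t, hzt, mem_basicOpen_ι i hEC hVU he t ht⟩

instance : Preorder (ChartIdx C) where
  le i j := ∀ ⦃Y : Scheme.{u}⦄ (g : Y ⟶ X), i.Mem g → j.Mem g
  le_refl _ _ _ h := h
  le_trans _ _ _ h h' _ g hg := h' g (h g hg)

/-- The inclusion of charts. -/
noncomputable def map {i j : ChartIdx C} (h : i ≤ j) : i.obj ⟶ j.obj :=
  (existsUnique_lift (h i.π mem_π)).choose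

lemma map_π {i j : ChartIdx C} (h : i ≤ j) : map h ≫ j.π = i.π :=
  (existsUnique_lift (h i.π mem_π)).choose_spec.1

variable (C) in
/-- The diagram of charts. -/
noncomputable def diagram : ChartIdx C ⥤ Scheme.{u} where
  obj i := i.obj
  map f := map f.le
  map_id i := hom_ext (mem_π (i := i)) (map_π _) (Category.id_comp _)
  map_comp f g := hom_ext ((f ≫ g).le _ mem_π) (map_π _) (by rw [Category.assoc, map_π, map_π])

lemma exists_opens_iso {i k : ChartIdx C} (h : i ≤ k) : IsOpenImmersion (map h) := by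
  let W : k.obj.Opens := sSup {O | i.Mem (O.ι ≫ k.π)}
  have hW : i.Mem (W.ι ≫ k.π) := by
    refine mem_of_cover (fun O : {O : k.obj.Opens // i.Mem (O.ι ≫ k.π)} => k.obj.homOfLE (le_sSup O.2 : O.1 ≤ W))
      (fun y => ?_) fun O => ?_
    · obtain ⟨O, hO, hyO⟩ := Opens.mem_sSup.mp y.2
      exact ⟨⟨O, hO⟩, ⟨y.1, hyO⟩, Subtype.ext (by simp)⟩
    · rw [Scheme.homOfLE_ι_assoc]; exact O.2
  have hr : Set.range (map h) ⊆ Set.range W.ι := by
    rintro _ ⟨x, rfl⟩
    obtain ⟨O, hxO, hO⟩ := exists_nbhd (i := i) (g := k.π) mem_π.1 (j := map h) (by rw [map_π]; exact mem_π) x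
    rw [Scheme.Opens.range_ι]
    exact Opens.mem_sSup.mpr ⟨O, hO, hxO⟩
  obtain ⟨s, hs, -⟩ := existsUnique_lift hW
  let f' : i.obj ⟶ W.toScheme := IsOpenImmersion.lift W.ι (map h) hr
  have h1 : f' ≫ s = 𝟙 _ := hom_ext (mem_π (i := i))
    (by rw [Category.assoc, hs, IsOpenImmersion.lift_fac_assoc, map_π]) (Category.id_comp _)
  have h2 : s ≫ f' = 𝟙 _ := by
    rw [← cancel_mono W.ι, Category.assoc, IsOpenImmersion.lift_fac, Category.id_comp]
    exact hom_ext (h _ hW) (by rw [Category.assoc, map_π, hs]) rfl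
  have : IsIso f' := ⟨s, h1, h2⟩
  rw [← IsOpenImmersion.lift_fac W.ι (map h) hr]
  infer_instance

instance {i k : ChartIdx C} (f : i ⟶ k) : IsOpenImmersion ((diagram C).map f) := exists_opens_iso f.le

/-- The product chart on a common affine open. -/
@[reducible] noncomputable def prod (i j : ChartIdx C) (U : X.affineOpens) (hi : U.1 ≤ i.U.1) (hj : U.1 ≤ j.U.1) : ChartIdx C where
  U := U
  n := i.n + j.n + 1
  c := X.presheaf.map (homOfLE hi).op i.c * X.presheaf.map (homOfLE hj).op j.c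
  mem := by
    rw [show i.n + j.n + 1 + 1 = (i.n + 1) + (j.n + 1) by omega, pow_add, ideal_mul, Pi.mul_apply]
    refine Ideal.mul_mem_mul ?_ ?_
    · rw [← (C ^ (i.n + 1)).map_ideal (U := U) hi]; exact Ideal.mem_map_of_mem _ i.mem
    · rw [← (C ^ (j.n + 1)).map_ideal (U := U) hj]; exact Ideal.mem_map_of_mem _ j.mem

lemma principal_comap_homOfLE (i : ChartIdx C) (U : X.affineOpens) (hi : U.1 ≤ i.U.1) :
    letI : IsAffine U.1.toScheme := U.2
    (principal i.sec).comap (X.homOfLE hi) = principal (U.1.topIso.inv (X.presheaf.map (homOfLE hi).op i.c)) := by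
  letI : IsAffine U.1.toScheme := U.2
  refine ext_of_isAffine ?_
  rw [ideal_principal_comap_top]
  simp only [principal, ofIdealTop_ideal]
  erw [CategoryTheory.Functor.map_id]
  rw [CommRingCat.hom_id, Ideal.map_id]
  congr 2
  have : i.U.1.topIso.inv ≫ (X.homOfLE hi).appTop = X.presheaf.map (homOfLE hi).op ≫ U.1.topIso.inv := by
    rw [Scheme.homOfLE_appTop, Scheme.Opens.topIso_inv, Scheme.Opens.topIso_inv]
    erw [← Functor.map_comp, ← Functor.map_comp]
    rfl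
  exact DFunLike.congr_fun (congrArg CommRingCat.Hom.hom this) i.c

lemma principal_mul {S : Scheme.{u}} [IsAffine S] (a b : Γ(S, ⊤)) : principal (a * b) = principal a * principal b := by
  refine ext_of_isAffine ?_
  simp only [principal, ideal_mul, Pi.mul_apply, ofIdealTop_ideal]
  erw [CategoryTheory.Functor.map_id]
  rw [CommRingCat.hom_id, Ideal.map_id, Ideal.map_id, Ideal.map_id, Ideal.span_singleton_mul_span_singleton]

lemma comap_principal_prod (i j : ChartIdx C) (U : X.affineOpens) (hi : U.1 ≤ i.U.1) (hj : U.1 ≤ j.U.1)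
    (g' : Y ⟶ U.1.toScheme) : (principal (prod i j U hi hj).sec).comap g' =
      (principal i.sec).comap (g' ≫ X.homOfLE hi) * (principal j.sec).comap (g' ≫ X.homOfLE hj) := by
  have : IsAffine U.1.toScheme := U.2
  rw [comap_comp, comap_comp, principal_comap_homOfLE i U hi, principal_comap_homOfLE j U hj]
  erw [← EffCartier.comap_mul, ← principal_mul, ← map_mul]

lemma mem_prod_of {i j : ChartIdx C} {U : X.affineOpens} {hi : U.1 ≤ i.U.1} {hj : U.1 ≤ j.U.1} {g : Y ⟶ X}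
    (h₁ : i.Mem g) (h₂ : j.Mem g) (g' : Y ⟶ U.1.toScheme) (hg' : g' ≫ U.1.ι = g) :
    (prod i j U hi hj).Mem g := by
  obtain ⟨a, ha, heqa⟩ := h₁.2
  obtain ⟨b, hb, heqb⟩ := h₂.2
  obtain rfl : a = g' ≫ X.homOfLE hi := by
    rw [← cancel_mono i.U.1.ι, ha, Category.assoc, Scheme.homOfLE_ι, hg']
  obtain rfl : b = g' ≫ X.homOfLE hj := by
    rw [← cancel_mono j.U.1.ι, hb, Category.assoc, Scheme.homOfLE_ι, hg']
  refine ⟨h₁.1, g', hg', ?_⟩
  rw [comap_principal_prod, heqa, heqb, ← comap_comp, ← comap_comp, ← comap_comp]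
  rw [ha, hb, show g' ≫ (prod i j U hi hj).U.1.ι = g from hg',
    show (prod i j U hi hj).n = i.n + j.n + 1 from rfl, ← EffCartier.comap_mul, ← pow_add]
  congr 2
  omega

lemma prod_le {i j : ChartIdx C} {U : X.affineOpens} {hi : U.1 ≤ i.U.1} {hj : U.1 ≤ j.U.1} :
    prod i j U hi hj ≤ i ∧ prod i j U hi hj ≤ j := by
  have key : ∀ ⦃Y : Scheme.{u}⦄ (g : Y ⟶ X), (prod i j U hi hj).Mem g → i.Mem g ∧ j.Mem g := by
    intro Y g hg
    obtain ⟨hEC, g', hg', heq⟩ := hg
    rw [comap_principal_prod] at heq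
    set a := g' ≫ X.homOfLE hi
    set b := g' ≫ X.homOfLE hj
    have ha : a ≫ i.U.1.ι = g := by rw [Category.assoc, Scheme.homOfLE_ι]; exact hg'
    have hb : b ≫ j.U.1.ι = g := by rw [Category.assoc, Scheme.homOfLE_ι]; exact hg'
    have hA : (principal i.sec).comap a ≤ i.J.comap a := comap_mono _ i.principal_le
    have hB : (principal j.sec).comap b ≤ j.J.comap b := comap_mono _ j.principal_le
    have hn : (prod i j U hi hj).J.comap g' = i.J.comap a * j.J.comap b := by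
      rw [← comap_comp, ← comap_comp, ← comap_comp, ha, hb, hg', ← EffCartier.comap_mul, ← pow_add]
      congr 2
      show i.n + j.n + 1 + 1 = _
      omega
    rw [hn] at heq
    have hECa : BlowUp.IsEffCartierIdeal (i.J.comap a) := by
      rw [← comap_comp, ha, comap_pow]; exact isEffCartierIdeal_pow hEC _
    have hECb : BlowUp.IsEffCartierIdeal (j.J.comap b) := by
      rw [← comap_comp, hb, comap_pow]; exact isEffCartierIdeal_pow hEC _
    have h1 : (principal i.sec).comap a = i.J.comap a := by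
      refine le_antisymm hA (EffCartier.le_of_mul_le_mul_right hECb ?_)
      rw [← heq]
      intro V; simp only [ideal_mul, Pi.mul_apply]; exact Ideal.mul_mono_right (hB V)
    have h2 : (principal j.sec).comap b = j.J.comap b := by
      refine le_antisymm hB (EffCartier.le_of_mul_le_mul_right hECa ?_)
      rw [mul_comm, ← heq]
      intro V; simp only [ideal_mul, Pi.mul_apply]
      rw [mul_comm ((principal i.sec).comap a |>.ideal V)]
      exact Ideal.mul_mono_right (hA V)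
    exact ⟨⟨hEC, a, ha, h1⟩, ⟨hEC, b, hb, h2⟩⟩
  exact ⟨fun _ g hg => (key g hg).1, fun _ g hg => (key g hg).2⟩

instance : (diagram C ⋙ Scheme.forget).IsLocallyDirected where
  cond {i j k} fi fj xi xj heq := by
    replace heq : map fi.le xi = map fj.le xj := heq
    obtain ⟨O₁, h₁z, hO₁⟩ := exists_nbhd (i := i) (g := k.π) mem_π.1 (j := map fi.le) (by rw [map_π]; exact mem_π) xi
    obtain ⟨O₂, h₂z, hO₂⟩ := exists_nbhd (i := j) (g := k.π) mem_π.1 (j := map fj.le) (by rw [map_π]; exact mem_π) xj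
    have hui : k.π (map fi.le xi) ∈ i.U.1 := by
      rw [← Scheme.Hom.comp_apply, map_π, π, Scheme.Hom.comp_apply]; exact (chartπ i.J i.sec xi).2
    have huj : k.π (map fi.le xi) ∈ j.U.1 := by
      rw [heq, ← Scheme.Hom.comp_apply, map_π, π, Scheme.Hom.comp_apply]; exact (chartπ j.J j.sec xj).2
    obtain ⟨r, r', hrr', hur⟩ := exists_basicOpen_le_affine_inter i.U.2 j.U.2 _ ⟨hui, huj⟩
    let U : X.affineOpens := X.affineBasicOpen r
    have hi : U.1 ≤ i.U.1 := X.basicOpen_le r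
    have hj : U.1 ≤ j.U.1 := hrr'.trans_le (X.basicOpen_le r')
    let O : k.obj.Opens := O₁ ⊓ O₂ ⊓ k.π ⁻¹ᵁ U.1
    have hz : map fi.le xi ∈ O := ⟨⟨h₁z, heq ▸ h₂z⟩, hur⟩
    have hOi : i.Mem (O.ι ≫ k.π) := by
      have := hO₁.restrict (k.obj.homOfLE (show O ≤ O₁ from fun x hx => hx.1.1))
      rwa [Scheme.homOfLE_ι_assoc] at this
    have hOj : j.Mem (O.ι ≫ k.π) := by
      have := hO₂.restrict (k.obj.homOfLE (show O ≤ O₂ from fun x hx => hx.1.2))
      rwa [Scheme.homOfLE_ι_assoc] at this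
    have hl := mem_prod_of (hi := hi) (hj := hj) hOi hOj (k.π.resLE U.1 O fun x hx => hx.2)
      (Scheme.Hom.resLE_comp_ι _ _)
    obtain ⟨s, hs, -⟩ := existsUnique_lift hl
    let fli : prod i j U hi hj ⟶ i := homOfLE prod_le.1
    let flj : prod i j U hi hj ⟶ j := homOfLE prod_le.2
    have hsk : ∀ (m : ChartIdx C) (fl : prod i j U hi hj ⟶ m) (fk : m ⟶ k),
        map fk.le (map fl.le (s ⟨_, hz⟩)) = map fi.le xi := by
      intro m fl fk
      have : (s ≫ map fl.le) ≫ map fk.le = O.ι :=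
        hom_ext (mem_π.restrict O.ι) (by rw [Category.assoc, Category.assoc, map_π, map_π, hs]) rfl
      rw [← Scheme.Hom.comp_apply, ← Scheme.Hom.comp_apply, ← Category.assoc, this]
      rfl
    refine ⟨prod i j U hi hj, fli, flj, s ⟨_, hz⟩, ?_, ?_⟩
    · exact (exists_opens_iso fi.le).base_open.injective (hsk i fli fi)
    · exact (exists_opens_iso fj.le).base_open.injective ((hsk j flj fj).trans heq)

variable (C) in
/-- The structure morphism of the glued blowing up. -/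
noncomputable def blowUpHom : colimit (diagram C) ⟶ X :=
  colimit.desc (diagram C) { pt := X, ι := { app := fun i => i.π, naturality := fun i j f => (map_π f.le).trans (Category.comp_id i.π).symm } }

lemma ι_blowUpHom (i : ChartIdx C) : colimit.ι (diagram C) i ≫ blowUpHom C = i.π := colimit.ι_desc _ _

/-- Over a given affine open of the base, every morphism making the centre effective Cartier lands locally in a
degree-one chart. -/
lemma exists_mem_of {g : Y ⟶ X} (hEC : BlowUp.IsEffCartierIdeal (C.comap g)) {U : X.Opens} (hU : IsAffineOpen U)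
    {y : Y} (hyU : g y ∈ U) :
    ∃ (O : Y.Opens) (i : ChartIdx C), i.U = ⟨U, hU⟩ ∧ i.n = 0 ∧ y ∈ O ∧ i.Mem (O.ι ≫ g) := by
  obtain ⟨V, hyV, hVU, f, hf⟩ := EffCartier.exists_isEqn hEC (show y ∈ g ⁻¹ᵁ U from hyU)
  suffices h : ∃ a ∈ C.ideal ⟨U, hU⟩, ∃ t, g.appLE U V.1 hVU a = f * t ∧ y ∈ Y.basicOpen t by
    obtain ⟨a, ha, t, hat, hyt⟩ := h
    let i : ChartIdx C := ⟨⟨U, hU⟩, 0, a, by rw [zero_add, pow_one]; exact ha⟩
    refine ⟨Y.basicOpen t, i, rfl, rfl, hyt, mem_basicOpen_ι i hEC hVU (e := f) ?_ t hat⟩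
    show EffCartier.IsEqn ((C ^ (0 + 1)).comap g) V f
    rw [zero_add, pow_one]; exact hf
  by_contra hne
  push Not at hne
  have key : ∀ x ∈ (C.ideal ⟨U, hU⟩).map (g.appLE U V.1 hVU).hom, ∀ t, x = f * t → y ∉ Y.basicOpen t := by
    intro x hx
    induction hx using Submodule.span_induction with
    | mem x hx =>
      obtain ⟨a, ha, rfl⟩ := hx
      exact fun t ht => hne a ha t ht
    | zero =>
      intro t ht hyt
      have : t = 0 := (mul_cancel_left_mem_nonZeroDivisors hf.mem).mp (by rw [← ht, mul_zero])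
      subst this; simp at hyt
    | add p q hp hq ihp ihq =>
      intro t ht hyt
      have hC := comap_ideal_mem (U := ⟨U, hU⟩) hf hVU
      obtain ⟨tp, rfl⟩ := hC p hp
      obtain ⟨tq, rfl⟩ := hC q hq
      obtain rfl : t = tp + tq := (mul_cancel_left_mem_nonZeroDivisors hf.mem).mp (by rw [← ht, mul_add])
      rw [Scheme.mem_basicOpen _ _ _ hyV, map_add] at hyt
      rcases IsLocalRing.isUnit_or_isUnit_of_isUnit_add hyt with h1 | h1
      · exact ihp tp rfl ((Scheme.mem_basicOpen _ _ _ hyV).mpr h1)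
      · exact ihq tq rfl ((Scheme.mem_basicOpen _ _ _ hyV).mpr h1)
    | smul r p hp ih =>
      intro t ht hyt
      obtain ⟨tp, rfl⟩ := comap_ideal_mem (U := ⟨U, hU⟩) hf hVU p hp
      obtain rfl : t = r * tp := (mul_cancel_left_mem_nonZeroDivisors hf.mem).mp
        (by rw [← ht, smul_eq_mul]; ring)
      rw [Scheme.mem_basicOpen _ _ _ hyV, map_mul, IsUnit.mul_iff] at hyt
      exact ih tp rfl ((Scheme.mem_basicOpen _ _ _ hyV).mpr hyt.2)
  refine key f ?_ 1 (mul_one f).symm (by rw [Scheme.basicOpen_of_isUnit _ isUnit_one]; exact hyV)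
  rw [← EffCartier.comap_ideal C g ⟨U, hU⟩ V hVU, hf.ideal_eq]
  exact Ideal.subset_span rfl
where
  comap_ideal_mem {Y : Scheme.{u}} {g : Y ⟶ X} {U : X.affineOpens} {V : Y.affineOpens} {f : Γ(Y, V.1)}
      (hf : EffCartier.IsEqn (C.comap g) V f) (hVU : V.1 ≤ g ⁻¹ᵁ U.1) :
      ∀ x ∈ (C.ideal U).map (g.appLE U.1 V.1 hVU).hom, f ∣ x := fun x hx => by
    rw [← EffCartier.comap_ideal C g U V hVU, hf.ideal_eq] at hx
    exact Ideal.mem_span_singleton.mp hx

/-- Every morphism making the centre effective Cartier lands locally in a degree-one chart. -/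
lemma exists_mem {g : Y ⟶ X} (hEC : BlowUp.IsEffCartierIdeal (C.comap g)) (y : Y) :
    ∃ (O : Y.Opens) (i : ChartIdx C), y ∈ O ∧ i.Mem (O.ι ≫ g) := by
  obtain ⟨_, ⟨U, hU, rfl⟩, hyU, -⟩ :=
    X.isBasis_affineOpens.exists_subset_of_mem_open (Set.mem_univ (g y)) isOpen_univ
  obtain ⟨O, i, -, -, h⟩ := exists_mem_of hEC hU hyU
  exact ⟨O, i, h⟩

/-- Blowing ups exist. -/
theorem isBlowUp_blowUpHom : BlowUp.IsBlowUp (blowUpHom C) C := by
  refine ⟨isEffCartierIdeal_of_cover (fun i => colimit.ι (diagram C) i)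
    (Scheme.IsLocallyDirected.ι_jointly_surjective _) fun i => ?_, fun Y g hEC => ?_⟩
  · rw [← comap_comp, ι_blowUpHom]; exact mem_π.1
  choose O idx hyO hmem using exists_mem hEC
  choose s hs using fun y => (existsUnique_lift (hmem y)).exists
  let l := fun y => s y ≫ colimit.ι (diagram C) (idx y)
  have hl : ∀ y, l y ≫ blowUpHom C = (O y).ι ≫ g := fun y => by
    show (s y ≫ colimit.ι (diagram C) (idx y)) ≫ blowUpHom C = _
    rw [Category.assoc]; erw [ι_blowUpHom]; rw [hs]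
  have uniq : ∀ {Z : Scheme.{u}} (g : Z ⟶ X), BlowUp.IsEffCartierIdeal (C.comap g) →
      ∀ (a b : Z ⟶ colimit (diagram C)), a ≫ blowUpHom C = g → b ≫ blowUpHom C = g → a = b := by
    intro Z g hEC a b ha hb
    refine Scheme.hom_ext_of_forall a b fun z => ?_
    obtain ⟨i, xi, hxi⟩ := Scheme.IsLocallyDirected.ι_jointly_surjective (diagram C) (a z)
    obtain ⟨j, xj, hxj⟩ := Scheme.IsLocallyDirected.ι_jointly_surjective (diagram C) (b z)
    let Oa : Z.Opens := a ⁻¹ᵁ (colimit.ι (diagram C) i).opensRange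
    let Ob : Z.Opens := b ⁻¹ᵁ (colimit.ι (diagram C) j).opensRange
    have hza : z ∈ Oa := ⟨xi, hxi⟩
    have hzb : z ∈ Ob := ⟨xj, hxj⟩
    have hgi : g z ∈ i.U.1 := by
      rw [← ha, Scheme.Hom.comp_apply, ← hxi]
      erw [← Scheme.Hom.comp_apply, ι_blowUpHom]
      exact (chartπ i.J i.sec xi).2
    have hgj : g z ∈ j.U.1 := by
      rw [← hb, Scheme.Hom.comp_apply, ← hxj]
      erw [← Scheme.Hom.comp_apply, ι_blowUpHom]
      exact (chartπ j.J j.sec xj).2
    obtain ⟨r, r', hrr', hgr⟩ := exists_basicOpen_le_affine_inter i.U.2 j.U.2 _ ⟨hgi, hgj⟩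
    let U : X.affineOpens := X.affineBasicOpen r
    have hi : U.1 ≤ i.U.1 := X.basicOpen_le r
    have hj : U.1 ≤ j.U.1 := hrr'.trans_le (X.basicOpen_le r')
    let W : Z.Opens := Oa ⊓ Ob ⊓ g ⁻¹ᵁ U.1
    refine ⟨W, ⟨⟨hza, hzb⟩, hgr⟩, ?_⟩
    have hECW : BlowUp.IsEffCartierIdeal (C.comap (W.ι ≫ g)) := by
      rw [comap_comp]; exact isEffCartierIdeal_comap_of_isOpenImmersion hEC _
    have hra : Set.range (W.ι ≫ a) ⊆ Set.range (colimit.ι (diagram C) i) := by
      rintro _ ⟨x, rfl⟩; exact x.2.1.1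
    have hrb : Set.range (W.ι ≫ b) ⊆ Set.range (colimit.ι (diagram C) j) := by
      rintro _ ⟨x, rfl⟩; exact x.2.1.2
    let a' := IsOpenImmersion.lift (colimit.ι (diagram C) i) _ hra
    let b' := IsOpenImmersion.lift (colimit.ι (diagram C) j) _ hrb
    have ha' : a' ≫ i.π = W.ι ≫ g := by
      rw [← ι_blowUpHom]; erw [IsOpenImmersion.lift_fac_assoc]; rw [Category.assoc, ha]
    have hb' : b' ≫ j.π = W.ι ≫ g := by
      rw [← ι_blowUpHom]; erw [IsOpenImmersion.lift_fac_assoc]; rw [Category.assoc, hb]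
    have memOf : ∀ (m : ChartIdx C) (t : W.toScheme ⟶ m.obj), t ≫ m.π = W.ι ≫ g → m.Mem (W.ι ≫ g) := by
      intro m t ht
      obtain ⟨-, p, hp, heq⟩ := mem_π (i := m)
      refine ⟨hECW, t ≫ p, by rw [Category.assoc, hp, ht], ?_⟩
      rw [comap_comp, comap_comp, heq]
    have hl := mem_prod_of (hi := hi) (hj := hj) (memOf i a' ha') (memOf j b' hb')
      (g.resLE U.1 W fun x hx => hx.2) (Scheme.Hom.resLE_comp_ι _ _)
    obtain ⟨c, hc, -⟩ := existsUnique_lift hl
    have hai : c ≫ map prod_le.1 = a' :=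
      hom_ext (memOf i a' ha') (by rw [Category.assoc, map_π, hc]) ha'
    have hbj : c ≫ map prod_le.2 = b' :=
      hom_ext (memOf j b' hb') (by rw [Category.assoc, map_π, hc]) hb'
    rw [← IsOpenImmersion.lift_fac _ _ hra, ← IsOpenImmersion.lift_fac _ _ hrb]
    show a' ≫ _ = b' ≫ _
    rw [← hai, ← hbj]
    erw [Category.assoc, Category.assoc]
    erw [colimit.w (diagram C) (homOfLE prod_le.1), colimit.w (diagram C) (homOfLE prod_le.2)]
  let 𝒰 := Y.openCoverOfIsOpenCover O (IsOpenCover.mk (top_le_iff.mp fun y _ => Opens.mem_iSup.mpr ⟨y, hyO y⟩))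
  have hcomp : ∀ x y, pullback.fst (𝒰.f x) (𝒰.f y) ≫ l x = pullback.snd (𝒰.f x) (𝒰.f y) ≫ l y := by
    intro x y
    refine uniq ((pullback.fst (𝒰.f x) (𝒰.f y) ≫ 𝒰.f x) ≫ g) ?_ _ _ ?_ ?_
    · rw [comap_comp]; exact isEffCartierIdeal_comap_of_isOpenImmersion hEC _
    · rw [Category.assoc, Category.assoc]; erw [hl]; rfl
    · rw [Category.assoc, pullback.condition, Category.assoc]; erw [hl]; rfl
  refine ⟨𝒰.glueMorphisms l hcomp, ?_, fun h hh => uniq g hEC _ _ hh ?_⟩ <;>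
  · refine Scheme.Cover.hom_ext 𝒰 _ _ fun y => ?_
    rw [Scheme.Cover.ι_glueMorphisms_assoc]; erw [hl]; rfl

end ChartIdx

end Groth.Agent.BlowUpExist
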