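import Mathlib.AlgebraicGeometry.ValuativeCriterion
import Mathlib.AlgebraicGeometry.Morphisms.QuasiSeparated
import Mathlib.RingTheory.Valuation.ValuationRing

/-!
# Properness from finitely many charts with coordinate ratios

A scheme over an affine base covered by finitely many affine charts `W k`, with functions `t k l` on `W k`
behaving like the ratios of homogeneous coordinates and generating `Γ(W k)`, is proper over the base.
-/

universe u

open CategoryTheory CategoryTheory.Limits AlgebraicGeometry TopologicalSpace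

namespace Groth.Agent.BlowUpExist

variable {Y S Z : Scheme.{u}}

lemma appTop_eq_appLE (f : Y ⟶ S) : f.appTop = f.appLE ⊤ ⊤ le_rfl := by
  rw [Scheme.Hom.appTop, Scheme.Hom.app_eq_appLE]; rfl

lemma eq_of_appLE_eq {W : Y.Opens} (hW : IsAffineOpen W) {p q : Z ⟶ Y} (hp : ⊤ ≤ p ⁻¹ᵁ W) (hq : ⊤ ≤ q ⁻¹ᵁ W)
    (h : p.appLE W ⊤ hp = q.appLE W ⊤ hq) : p = q := by
  have : IsAffine W.toScheme := hW
  have hr : ∀ (r : Z ⟶ Y), ⊤ ≤ r ⁻¹ᵁ W → Set.range r ⊆ Set.range W.ι := by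
    rintro r hr _ ⟨z, rfl⟩; rw [Scheme.Opens.range_ι]; exact hr (Set.mem_univ z)
  have key : ∀ (r : Z ⟶ Y) (e : ⊤ ≤ r ⁻¹ᵁ W),
      W.topIso.inv ≫ (IsOpenImmersion.lift W.ι r (hr r e)).appTop = r.appLE W ⊤ e := by
    intro r e
    have h1 : W.ι.appLE W ⊤ (fun x _ => x.2) = W.topIso.inv := by
      simp [Scheme.Opens.ι_appLE, Scheme.Opens.topIso_inv]; rfl
    rw [← h1, appTop_eq_appLE, Scheme.Hom.appLE_comp_appLE]
    simp only [IsOpenImmersion.lift_fac]
  rw [← IsOpenImmersion.lift_fac W.ι p (hr p hp), ← IsOpenImmersion.lift_fac W.ι q (hr q hq)]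
  congr 1
  refine ext_of_isAffine ?_
  rw [← cancel_epi W.topIso.inv, key p hp, key q hq, h]

lemma appLE_map_apply {W V : Y.Opens} (h : V ≤ W) (p : Z ⟶ Y) (hW : ⊤ ≤ p ⁻¹ᵁ W) (hV : ⊤ ≤ p ⁻¹ᵁ V)
    (a : Γ(Y, W)) : p.appLE V ⊤ hV (Y.presheaf.map (homOfLE h).op a) = p.appLE W ⊤ hW a :=
  DFunLike.congr_fun (congrArg CommRingCat.Hom.hom (p.map_appLE hV (homOfLE h).op)) a

variable [IsAffine S] (b : Y ⟶ S) {ι : Type*} [Finite ι] {W : ι → Y.Opens}

/-- Chart data as for projective space. -/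
structure IsChartData (W : ι → Y.Opens) (t : ∀ k, ι → Γ(Y, W k)) : Prop where
  affine : ∀ k, IsAffineOpen (W k)
  cover : ⨆ k, W k = ⊤
  self : ∀ k, t k k = 1
  inter : ∀ k l, W k ⊓ W l = Y.basicOpen (t k l)
  cocycle : ∀ k j i, Y.presheaf.map (homOfLE (inf_le_left : W k ⊓ W j ≤ W k)).op (t k j) *
      Y.presheaf.map (homOfLE (inf_le_right : W k ⊓ W j ≤ W j)).op (t j i) =
      Y.presheaf.map (homOfLE (inf_le_left : W k ⊓ W j ≤ W k)).op (t k i)
  gen : ∀ k, ∀ P : Subring Γ(Y, W k), Set.range (b.appLE ⊤ (W k) (fun _ _ => trivial)) ⊆ P →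
      Set.range (t k) ⊆ P → P = ⊤

variable {b} {t : ∀ k, ι → Γ(Y, W k)}

lemma IsChartData.mem_inter (h : IsChartData b W t) (p : Z ⟶ Y) {k : ι} (hp : ⊤ ≤ p ⁻¹ᵁ W k) (l : ι)
    (hu : IsUnit (p.appLE (W k) ⊤ hp (t k l))) : ⊤ ≤ p ⁻¹ᵁ (W k ⊓ W l) := by
  intro z _
  have hz : z ∈ Z.basicOpen (p.appLE (W k) ⊤ hp (t k l)) := by
    rw [Scheme.basicOpen_of_isUnit _ hu]; trivial
  rw [Scheme.basicOpen_appLE] at hz
  rw [h.inter]
  exact hz.2

lemma IsChartData.cocycle_at (h : IsChartData b W t) (p : Z ⟶ Y) {k j : ι} (hk : ⊤ ≤ p ⁻¹ᵁ W k)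
    (hj : ⊤ ≤ p ⁻¹ᵁ W j) (i : ι) :
    p.appLE (W k) ⊤ hk (t k j) * p.appLE (W j) ⊤ hj (t j i) = p.appLE (W k) ⊤ hk (t k i) := by
  have hkj : ⊤ ≤ p ⁻¹ᵁ (W k ⊓ W j) := fun z hz => ⟨hk hz, hj hz⟩
  have := congrArg (p.appLE (W k ⊓ W j) ⊤ hkj) (h.cocycle k j i)
  rw [map_mul, appLE_map_apply _ p hk, appLE_map_apply _ p hj, appLE_map_apply _ p hk] at this
  exact this

omit [Finite ι] in
lemma top_le_preimage_of_closedPoint {R : Type u} [CommRing R] [IsLocalRing R]
    (p : Spec (CommRingCat.of R) ⟶ Y) (W : Y.Opens) (h : p (IsLocalRing.closedPoint R) ∈ W) : ⊤ ≤ p ⁻¹ᵁ W :=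
  fun z _ => ((IsLocalRing.specializes_closedPoint z).map p.continuous).mem_open W.isOpen h

lemma IsChartData.quasiCompact (h : IsChartData b W t) : QuasiCompact b := by
  rw [HasAffineProperty.iff_of_isAffine (P := @QuasiCompact)]
  refine ⟨?_⟩
  have : (Set.univ : Set Y) = ⋃ k, (W k : Set Y) := by
    rw [← Opens.coe_iSup, h.cover]; rfl
  rw [this]
  exact isCompact_iUnion fun k => (h.affine k).isCompact

lemma IsChartData.quasiSeparated (h : IsChartData b W t) : QuasiSeparated b := by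
  rw [quasiSeparated_iff_quasiSeparatedSpace]
  refine Scheme.quasiSeparatedSpace_of_isOpenCover W (IsOpenCover.mk h.cover) h.affine fun k l => ?_
  have : ((W k : Set Y) ∩ W l) = (Y.basicOpen (t k l) : Set Y) :=
    congrArg (fun O : Y.Opens => (O : Set Y)) (h.inter k l)
  rw [this]
  exact ((h.affine k).basicOpen _).isCompact

lemma IsChartData.locallyOfFiniteType (h : IsChartData b W t) : LocallyOfFiniteType b := by
  classical
  rw [IsZariskiLocalAtSource.iff_of_iSup_eq_top (P := @LocallyOfFiniteType) W h.cover]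
  intro k
  have : IsAffine (W k).toScheme := h.affine k
  rw [HasRingHomProperty.iff_of_isAffine (P := @LocallyOfFiniteType)]
  have e : ((W k).ι ≫ b).appTop = b.appLE ⊤ (W k) (fun _ _ => trivial) ≫ (W k).topIso.inv := by
    rw [appTop_eq_appLE, ← Scheme.Hom.appLE_comp_appLE (W k).ι b ⊤ (W k) ⊤
      (fun _ _ => trivial) (fun x _ => x.2)]
    congr 1
    simp [Scheme.Opens.ι_appLE, Scheme.Opens.topIso_inv]
    rfl
  rw [e, CommRingCat.hom_comp]
  refine RingHom.FiniteType.comp (RingHom.FiniteType.of_surjective _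
    (ConcreteCategory.bijective_of_isIso (W k).topIso.inv).2) ?_
  algebraize [(b.appLE ⊤ (W k) (fun _ _ => trivial)).hom]
  show Algebra.FiniteType _ _
  cases nonempty_fintype ι
  refine ⟨⟨Finset.univ.image (t k), ?_⟩⟩
  refine SetLike.ext fun x => ⟨fun _ => trivial, fun _ => ?_⟩
  have htop := h.gen k (Algebra.adjoin Γ(S, ⊤) ↑(Finset.univ.image (t k))).toSubring
    (by rintro _ ⟨a, rfl⟩; exact Subalgebra.algebraMap_mem _ a)
    (by rintro _ ⟨l, rfl⟩; exact Algebra.subset_adjoin (by simp))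
  exact htop.ge (Subring.mem_top x)

lemma IsChartData.uniqueness (h : IsChartData b W t) : ValuativeCriterion.Uniqueness b := by
  rintro ⟨R, K, i₁, i₂, ⟨w⟩⟩
  refine ⟨fun l l' => ?_⟩
  ext : 1
  let g : Spec (CommRingCat.of K) ⟶ Spec (CommRingCat.of R) := Spec.map (CommRingCat.ofHom (algebraMap R K))
  obtain ⟨k, hk⟩ := Opens.mem_iSup.mp (h.cover.ge (Set.mem_univ (l.l (IsLocalRing.closedPoint R))))
  obtain ⟨j, hj⟩ := Opens.mem_iSup.mp (h.cover.ge (Set.mem_univ (l'.l (IsLocalRing.closedPoint R))))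
  have hlk := top_le_preimage_of_closedPoint l.l _ hk
  have hlj := top_le_preimage_of_closedPoint l'.l _ hj
  have hginj : Function.Injective g.appTop := by
    have : g.appTop = (Scheme.ΓSpecIso _).hom ≫ CommRingCat.ofHom (algebraMap R K) ≫ (Scheme.ΓSpecIso _).inv := by
      rw [← cancel_mono (Scheme.ΓSpecIso _).hom, Scheme.ΓSpecIso_naturality]; simp
    rw [this]
    simp only [CommRingCat.hom_comp, RingHom.coe_comp]
    exact (ConcreteCategory.bijective_of_isIso (Scheme.ΓSpecIso (CommRingCat.of K)).inv).1.comp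
      ((IsFractionRing.injective R K).comp (ConcreteCategory.bijective_of_isIso (Scheme.ΓSpecIso (CommRingCat.of R)).hom).1)
  have hi₁ : g ≫ l.l = g ≫ l'.l := l.fac_left.trans l'.fac_left.symm
  have hgk : ⊤ ≤ (g ≫ l.l) ⁻¹ᵁ W k := fun z _ => hlk (Set.mem_univ (g z))
  have hgj : ⊤ ≤ (g ≫ l.l) ⁻¹ᵁ W j := fun z _ => by rw [hi₁]; exact hlj (Set.mem_univ (g z))
  have hev : ∀ {p : Spec (CommRingCat.of R) ⟶ Y} {O : Y.Opens} (e : ⊤ ≤ p ⁻¹ᵁ O) (e' : ⊤ ≤ (g ≫ p) ⁻¹ᵁ O)
      (a : Γ(Y, O)), g.appTop (p.appLE O ⊤ e a) = (g ≫ p).appLE O ⊤ e' a := by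
    intro p O e e' a
    have hm : p.appLE O ⊤ e ≫ g.appTop = (g ≫ p).appLE O ⊤ e' := by
      rw [appTop_eq_appLE, Scheme.Hom.appLE_comp_appLE]
    exact DFunLike.congr_fun (congrArg CommRingCat.Hom.hom hm) a
  have hunit : l.l.appLE (W k) ⊤ hlk (t k j) * l'.l.appLE (W j) ⊤ hlj (t j k) = 1 := by
    apply hginj
    rw [map_mul, map_one, hev hlk hgk, hev hlj (hi₁ ▸ hgj)]
    have h2 : (g ≫ l'.l).appLE (W j) ⊤ (hi₁ ▸ hgj) (t j k) = (g ≫ l.l).appLE (W j) ⊤ hgj (t j k) := by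
      simp only [hi₁]
    rw [h2, h.cocycle_at _ hgk hgj, h.self, map_one]
  have hlkj : ⊤ ≤ l.l ⁻¹ᵁ W j := fun z hz => ((h.mem_inter l.l hlk j (IsUnit.of_mul_eq_one _ hunit)) hz).2
  refine eq_of_appLE_eq (h.affine j) hlkj hlj (CommRingCat.hom_ext (RingHom.ext fun a => hginj ?_))
  show g.appTop (l.l.appLE (W j) ⊤ hlkj a) = g.appTop (l'.l.appLE (W j) ⊤ hlj a)
  rw [hev hlkj hgj, hev hlj (hi₁ ▸ hgj)]
  simp only [hi₁]

lemma IsChartData.existence (h : IsChartData b W t) : ValuativeCriterion.Existence b := by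
  classical
  rintro ⟨R, K, i₁, i₂, ⟨w⟩⟩
  cases nonempty_fintype ι
  obtain ⟨k, hk⟩ := Opens.mem_iSup.mp (h.cover.ge (Set.mem_univ (i₁ (IsLocalRing.closedPoint K))))
  have hik := top_le_preimage_of_closedPoint i₁ _ hk
  let eK : Γ(Spec (CommRingCat.of K), ⊤) →+* K := (Scheme.ΓSpecIso (CommRingCat.of K)).hom.hom
  let ev (j : ι) (hj : ⊤ ≤ i₁ ⁻¹ᵁ W j) : Γ(Y, W j) →+* K := eK.comp (i₁.appLE (W j) ⊤ hj).hom
  let v : ι → ValuationRing.ValueGroup R K := fun l => ValuationRing.valuation R K (ev k hik (t k l))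
  obtain ⟨j, -, hmax⟩ := Finset.exists_max_image Finset.univ v ⟨k, Finset.mem_univ k⟩
  have hvk : v k = 1 := by simp only [v, h.self, map_one]
  have hvj : v j ≠ 0 := fun h0 => one_ne_zero (le_zero_iff.mp (h0 ▸ hvk ▸ hmax k (Finset.mem_univ k)))
  have hne : ev k hik (t k j) ≠ 0 := fun h0 => hvj (by simp only [v, h0, map_zero])
  have hu : IsUnit (i₁.appLE (W k) ⊤ hik (t k j)) := by
    have h1 : IsUnit (ev k hik (t k j)) := isUnit_iff_ne_zero.mpr hne
    exact (isUnit_map_iff (Scheme.ΓSpecIso (CommRingCat.of K)).commRingCatIsoToRingEquiv _).mp h1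
  have hij : ⊤ ≤ i₁ ⁻¹ᵁ W j := fun z hz => (h.mem_inter i₁ hik j hu hz).2
  let eR : Γ(Spec (CommRingCat.of R), ⊤) →+* R := (Scheme.ΓSpecIso (CommRingCat.of R)).hom.hom
  have hbase : ∀ a : Γ(S, ⊤), algebraMap R K (eR (i₂.appTop a)) =
      ev j hij (b.appLE ⊤ (W j) (fun _ _ => trivial) a) := by
    intro a
    have h1 : i₂.appTop ≫ (Scheme.ΓSpecIso (CommRingCat.of R)).hom ≫ CommRingCat.ofHom (algebraMap R K) =
        b.appLE ⊤ (W j) (fun _ _ => trivial) ≫ i₁.appLE (W j) ⊤ hij ≫ (Scheme.ΓSpecIso (CommRingCat.of K)).hom := by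
      rw [← Scheme.ΓSpecIso_naturality, ← Category.assoc, ← Scheme.Hom.comp_appTop, ← w,
        ← Category.assoc (b.appLE _ _ _), Scheme.Hom.appLE_comp_appLE, Scheme.Hom.appTop, Scheme.Hom.app_eq_appLE]
      rfl
    exact DFunLike.congr_fun (congrArg CommRingCat.Hom.hom h1) a
  have hrange : ∀ a, ev j hij a ∈ (algebraMap R K).range := by
    have htop := h.gen j ((algebraMap R K).range.comap (ev j hij)) ?_ ?_
    · intro a; exact htop.ge (Subring.mem_top a)
    · rintro _ ⟨a, rfl⟩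
      exact ⟨_, hbase a⟩
    · rintro _ ⟨i, rfl⟩
      show ev j hij (t j i) ∈ (algebraMap R K).range
      rw [← ValuationRing.range_algebraMap_eq, Valuation.mem_integer_iff]
      have hc : ev k hik (t k j) * ev j hij (t j i) = ev k hik (t k i) := by
        have := congrArg eK (h.cocycle_at i₁ hik hij i)
        rwa [map_mul] at this
      have h2 : v j * ValuationRing.valuation R K (ev j hij (t j i)) ≤ v j * 1 := by
        rw [mul_one, show v j = ValuationRing.valuation R K (ev k hik (t k j)) from rfl, ← map_mul, hc]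
        exact hmax i (Finset.mem_univ i)
      exact (mul_le_mul_iff_of_pos_left (zero_lt_iff.mpr hvj)).mp h2
  let e : R ≃+* (algebraMap R K).range := RingEquiv.ofLeftInverse
    (Function.leftInverse_invFun (IsFractionRing.injective R K))
  let ψ : Γ(Y, W j) →+* R := e.symm.toRingHom.comp ((ev j hij).codRestrict _ hrange)
  have hψ : ∀ a, algebraMap R K (ψ a) = ev j hij a := fun a => congrArg Subtype.val (e.apply_symm_apply _)
  let l : Spec (CommRingCat.of R) ⟶ Y := Spec.map (CommRingCat.ofHom ψ) ≫ (h.affine j).fromSpec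
  have hlj : ⊤ ≤ l ⁻¹ᵁ W j := fun z _ => by
    show l z ∈ W j
    have hmem : (h.affine j).fromSpec (Spec.map (CommRingCat.ofHom ψ) z) ∈ Set.range (h.affine j).fromSpec :=
      ⟨_, rfl⟩
    rw [(h.affine j).range_fromSpec] at hmem
    exact hmem
  have hl : l.appLE (W j) ⊤ hlj = CommRingCat.ofHom ψ ≫ (Scheme.ΓSpecIso (CommRingCat.of R)).inv := by
    rw [← Scheme.Hom.appLE_comp_appLE (Spec.map (CommRingCat.ofHom ψ)) (h.affine j).fromSpec (W j) ⊤ ⊤
      (by rw [(h.affine j).fromSpec_preimage_self]) le_rfl, Scheme.ΓSpecIso_inv_naturality]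
    congr 1
    · rw [Scheme.Hom.appLE, (h.affine j).fromSpec_app_self, Category.assoc]
      erw [← Functor.map_comp]
      erw [CategoryTheory.Functor.map_id, Category.comp_id]
      rfl
  refine ⟨⟨l, ?_, ?_⟩⟩
  · have e1 : ⊤ ≤ (Spec.map (CommRingCat.ofHom (algebraMap R K)) ≫ l) ⁻¹ᵁ W j := fun z _ => hlj (Set.mem_univ _)
    refine eq_of_appLE_eq (h.affine j) e1 hij ?_
    rw [← Scheme.Hom.appLE_comp_appLE (Spec.map (CommRingCat.ofHom (algebraMap R K))) l (W j) ⊤ ⊤ hlj le_rfl, hl,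
      ← cancel_mono (Scheme.ΓSpecIso (CommRingCat.of K)).hom]
    have h3 : (Spec.map (CommRingCat.ofHom (algebraMap R K))).appLE ⊤ ⊤ le_rfl =
        (Spec.map (CommRingCat.ofHom (algebraMap R K))).appTop := by
      rw [Scheme.Hom.appTop, Scheme.Hom.app_eq_appLE]; rfl
    rw [Category.assoc, Category.assoc, h3, Scheme.ΓSpecIso_naturality, Iso.inv_hom_id_assoc]
    exact CommRingCat.hom_ext (RingHom.ext hψ)
  · refine ext_of_isAffine ?_
    have h4 : (l ≫ b).appTop = b.appLE ⊤ (W j) (fun _ _ => trivial) ≫ l.appLE (W j) ⊤ hlj := by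
      rw [Scheme.Hom.appLE_comp_appLE, appTop_eq_appLE]
    rw [h4, hl, ← cancel_mono (Scheme.ΓSpecIso (CommRingCat.of R)).hom, Category.assoc, Category.assoc,
      Iso.inv_hom_id, Category.comp_id]
    refine CommRingCat.hom_ext (RingHom.ext fun a => IsFractionRing.injective R K ?_)
    exact (hψ _).trans (hbase a).symm

theorem IsChartData.isProper (h : IsChartData b W t) : IsProper b := by
  have := h.quasiCompact
  have := h.quasiSeparated
  have := h.locallyOfFiniteType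
  exact IsProper.of_valuativeCriterion b (ValuativeCriterion.iff.mpr ⟨h.existence, h.uniqueness⟩)

end Groth.Agent.BlowUpExist
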