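import Groth.Agent.Lib.BlowUpExist.Glue
import Groth.Agent.Lib.BlowUpExist.ChartProper
import Mathlib.AlgebraicGeometry.Morphisms.Proper

/-!
# Charts of a blowing up; blowing up a finite type centre is proper
-/

universe u

open CategoryTheory CategoryTheory.Limits AlgebraicGeometry TopologicalSpace

namespace Groth.Agent.BlowUpExist

open AlgebraicGeometry.Scheme.IdealSheafData
open scoped nonZeroDivisors

variable {X Y : Scheme.{u}} {C : X.IdealSheafData} {b : Y ⟶ X}

lemma ι_appLE_self (W : Y.Opens) (e : ⊤ ≤ W.ι ⁻¹ᵁ W) : W.ι.appLE W ⊤ e = W.topIso.inv := by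
  simp [Scheme.Opens.ι_appLE, Scheme.Opens.topIso_inv]; rfl

lemma isEqn_restrict {I : Y.IdealSheafData} (hI : BlowUp.IsEffCartierIdeal I) {W : Y.affineOpens} {f : Γ(Y, W.1)}
    (hf : EffCartier.IsEqn I W f) (V : Y.affineOpens) (h : V.1 ≤ W.1) :
    EffCartier.IsEqn I V (Y.presheaf.map (homOfLE h).op f) := by
  have he : I.ideal V = Ideal.span {Y.presheaf.map (homOfLE h).op f} := by
    rw [← I.map_ideal (U := V) (V := W) h, hf.ideal_eq, Ideal.map_span, Set.image_singleton]; rfl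
  exact ⟨EffCartier.mem_nonZeroDivisors_of_ideal_eq hI V _ he, he⟩

namespace ChartIdx

/-- The open of a blowing up on which a chart condition holds. -/
noncomputable def locus (i : ChartIdx C) (b : Y ⟶ X) : Y.Opens := sSup {O | i.Mem (O.ι ≫ b)}

variable (hb : BlowUp.IsBlowUp b C) (i : ChartIdx C)

lemma le_locus {i : ChartIdx C} {O : Y.Opens} (h : i.Mem (O.ι ≫ b)) : O ≤ i.locus b := le_sSup h

lemma mem_locus : i.Mem ((i.locus b).ι ≫ b) := by
  refine mem_of_cover (fun O : {O : Y.Opens // i.Mem (O.ι ≫ b)} => Y.homOfLE (le_locus O.2))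
    (fun y => ?_) fun O => ?_
  · obtain ⟨O, hO, hyO⟩ := Opens.mem_sSup.mp y.2
    exact ⟨⟨O, hO⟩, ⟨y.1, hyO⟩, Subtype.ext (by simp)⟩
  · rw [Scheme.homOfLE_ι_assoc]; exact O.2

include hb in
lemma exists_locus_iso : ∃ e : (i.locus b).toScheme ≅ i.obj, e.hom ≫ i.π = (i.locus b).ι ≫ b := by
  obtain ⟨s, hs, -⟩ := hb.2 _ i.π mem_π.1
  obtain ⟨r, hr, -⟩ := existsUnique_lift (mem_locus (b := b) i)
  have hrange : Set.range s ⊆ Set.range (i.locus b).ι := by
    rintro _ ⟨x, rfl⟩
    obtain ⟨O, hxO, hO⟩ := exists_nbhd (i := i) (g := b) hb.1 (j := s) (by rw [hs]; exact mem_π) x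
    rw [Scheme.Opens.range_ι]
    exact le_locus hO hxO
  let s' : i.obj ⟶ (i.locus b).toScheme := IsOpenImmersion.lift (i.locus b).ι s hrange
  have h1 : s' ≫ r = 𝟙 _ := hom_ext (mem_π (i := i))
    (by rw [Category.assoc, hr, IsOpenImmersion.lift_fac_assoc, hs]) (Category.id_comp _)
  have h2 : r ≫ s' = 𝟙 _ := by
    rw [← cancel_mono (i.locus b).ι, Category.assoc, IsOpenImmersion.lift_fac, Category.id_comp]
    exact (hb.2 _ ((i.locus b).ι ≫ b) (mem_locus i).1).unique
      (by beta_reduce; rw [Category.assoc, hs, hr]) rfl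
  exact ⟨⟨r, s', h2, h1⟩, hr⟩

include hb in
lemma isAffineOpen_locus : IsAffineOpen (i.locus b) := by
  obtain ⟨e, -⟩ := exists_locus_iso hb i
  exact IsAffine.of_isIso e.hom

lemma locus_le : i.locus b ≤ b ⁻¹ᵁ i.U.1 := by
  intro y hy
  obtain ⟨g', hg', -⟩ := (mem_locus (b := b) i).2
  have h : b y ∈ Set.range i.U.1.ι := ⟨g' ⟨y, hy⟩, by rw [← Scheme.Hom.comp_apply, hg']; rfl⟩
  rwa [Scheme.Opens.range_ι] at h

include hb in
lemma isEqn_locus : EffCartier.IsEqn ((C ^ (i.n + 1)).comap b) ⟨i.locus b, isAffineOpen_locus hb i⟩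
    (b.appLE i.U.1 (i.locus b) (locus_le i) i.c) := by
  have : IsAffine (i.locus b).toScheme := isAffineOpen_locus hb i
  have hg : b.resLE i.U.1 (i.locus b) (locus_le i) ≫ i.U.1.ι = (i.locus b).ι ≫ b := Scheme.Hom.resLE_comp_ι _ _
  obtain ⟨hm, hspan⟩ := (chartCond_iff i.J i.sec _).mp (chartCond_of_mem (mem_locus i) hg)
  have hsec : (b.resLE i.U.1 (i.locus b) (locus_le i)).appTop i.sec =
      (i.locus b).topIso.inv (b.appLE i.U.1 (i.locus b) (locus_le i) i.c) := by
    have : i.U.1.topIso.inv ≫ (b.resLE i.U.1 (i.locus b) (locus_le i)).appTop =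
        b.appLE i.U.1 (i.locus b) (locus_le i) ≫ (i.locus b).topIso.inv := by
      rw [Scheme.Hom.appTop, Scheme.Hom.resLE_app_top, Iso.inv_hom_id_assoc]
    exact DFunLike.congr_fun (congrArg CommRingCat.Hom.hom this) i.c
  have hbij : Function.Bijective (i.locus b).topIso.inv := ConcreteCategory.bijective_of_isIso _
  refine ⟨?_, le_antisymm (fun x hx => ?_) ?_⟩
  · rw [hsec] at hm
    rw [mem_nonZeroDivisors_iff_right] at hm ⊢
    intro z hz
    refine hbij.1 ((hm _ ?_).trans (map_zero (i.locus b).topIso.inv.hom).symm)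
    rw [← map_mul]; exact (congrArg _ hz).trans (map_zero (i.locus b).topIso.inv.hom)
  · rw [← EffCartier.comap_ideal_top, ← comap_comp, hg, comap_comp, hsec] at hspan
    have hx' : (i.locus b).topIso.inv x ∈
        Ideal.span {(i.locus b).topIso.inv (b.appLE i.U.1 (i.locus b) (locus_le i) i.c)} := by
      rw [← hspan, ← ι_appLE_self (i.locus b) (fun y _ => y.2)]
      exact EffCartier.map_ideal_le_comap_ideal _ (i.locus b).ι ⟨i.locus b, isAffineOpen_locus hb i⟩
        ⟨⊤, isAffineOpen_top _⟩ (fun y _ => y.2) (Ideal.mem_map_of_mem _ hx)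
    obtain ⟨z, hz⟩ := Ideal.mem_span_singleton.mp hx'
    obtain ⟨z, rfl⟩ := hbij.2 z
    rw [← map_mul] at hz
    exact Ideal.mem_span_singleton.mpr ⟨z, hbij.1 hz⟩
  · rw [Ideal.span_singleton_le_iff_mem, EffCartier.comap_ideal _ b i.U ⟨_, isAffineOpen_locus hb i⟩ (locus_le i)]
    exact Ideal.mem_map_of_mem _ i.mem

include hb in
lemma exists_coord {a : Γ(X, i.U.1)} (ha : a ∈ (C ^ (i.n + 1)).ideal i.U) :
    ∃ z, b.appLE i.U.1 (i.locus b) (locus_le i) a = b.appLE i.U.1 (i.locus b) (locus_le i) i.c * z := by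
  refine Ideal.mem_span_singleton.mp ?_
  rw [← (isEqn_locus hb i).ideal_eq, EffCartier.comap_ideal _ b i.U ⟨_, isAffineOpen_locus hb i⟩ (locus_le i)]
  exact Ideal.mem_map_of_mem _ ha

include hb in
lemma exists_ringEquiv_locus : ∃ φ : BlowUp.affineAlgebra Γ(i.U.1.toScheme, ⊤) (i.J.ideal ⟨⊤, isAffineOpen_top _⟩) i.sec →+*
    Γ(Y, i.locus b), Function.Surjective φ ∧ ∀ a, φ (algebraMap Γ(i.U.1.toScheme, ⊤) _ a) =
      b.appLE i.U.1 (i.locus b) (locus_le i) (i.U.1.topIso.hom a) := by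
  obtain ⟨e, he⟩ := exists_locus_iso hb i
  let φ := (Scheme.ΓSpecIso (CommRingCat.of (BlowUp.affineAlgebra Γ(i.U.1.toScheme, ⊤)
    (i.J.ideal ⟨⊤, isAffineOpen_top _⟩) i.sec))).inv ≫ e.hom.appTop ≫ (i.locus b).topIso.hom
  have : IsIso e.hom.appTop := inferInstanceAs (IsIso (Scheme.Γ.map e.hom.op))
  have : IsIso φ := by dsimp [φ]; infer_instance
  refine ⟨φ.hom, (ConcreteCategory.bijective_of_isIso φ).2, fun a => ?_⟩
  have h1 : e.hom ≫ chartπ i.J i.sec = b.resLE i.U.1 (i.locus b) (locus_le i) := by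
    rw [← cancel_mono i.U.1.ι, Category.assoc, Scheme.Hom.resLE_comp_ι]; exact he
  have h2 : CommRingCat.ofHom (algebraMap Γ(i.U.1.toScheme, ⊤) (BlowUp.affineAlgebra Γ(i.U.1.toScheme, ⊤)
      (i.J.ideal ⟨⊤, isAffineOpen_top _⟩) i.sec)) ≫ φ =
      i.U.1.topIso.hom ≫ b.appLE i.U.1 (i.locus b) (locus_le i) := by
    rw [← chartπ_appTop]
    simp only [φ, Category.assoc, Iso.hom_inv_id_assoc]
    rw [← Category.assoc, ← Scheme.Hom.comp_appTop, h1, Scheme.Hom.appTop, Scheme.Hom.resLE_app_top]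
    simp only [Category.assoc, Iso.inv_hom_id, Category.comp_id]
  exact DFunLike.congr_fun (congrArg CommRingCat.Hom.hom h2) a

end ChartIdx

open ChartIdx in
theorem isProper_of_affine [IsAffine X] (hC : (C.ideal ⟨⊤, isAffineOpen_top X⟩).FG) (hb : BlowUp.IsBlowUp b C) :
    IsProper b := by
  classical
  obtain ⟨s, hs⟩ := hC
  have hs' : ∀ k : s, k.1 ∈ (C ^ (0 + 1)).ideal ⟨⊤, isAffineOpen_top X⟩ := fun k => by
    rw [zero_add, pow_one, ← hs]; exact Ideal.subset_span k.2
  let i : s → ChartIdx C := fun k => ⟨⟨⊤, isAffineOpen_top X⟩, 0, k.1, hs' k⟩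
  choose t ht using fun (k l : s) => exists_coord hb (i k) (a := l.1) (hs' l)
  have hCn : BlowUp.IsEffCartierIdeal ((C ^ (0 + 1)).comap b) := by rw [zero_add, pow_one]; exact hb.1
  have heqn : ∀ k, EffCartier.IsEqn ((C ^ (0 + 1)).comap b) ⟨(i k).locus b, isAffineOpen_locus hb (i k)⟩
      (b.appLE ⊤ ((i k).locus b) (fun _ _ => trivial) k.1) := fun k => isEqn_locus hb (i k)
  have hres : ∀ (k : s) (V : Y.Opens) (h : V ≤ (i k).locus b) (a : Γ(X, ⊤)),
      Y.presheaf.map (homOfLE h).op (b.appLE ⊤ ((i k).locus b) (fun _ _ => trivial) a) =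
        b.appLE ⊤ V (fun _ _ => trivial) a := fun k V h a =>
    DFunLike.congr_fun (congrArg CommRingCat.Hom.hom (b.appLE_map (show (i k).locus b ≤ b ⁻¹ᵁ (⊤ : X.Opens) from fun _ _ => trivial) (homOfLE h).op)) a
  have htk : ∀ k l : s, b.appLE ⊤ ((i k).locus b) (fun _ _ => trivial) l.1 =
      b.appLE ⊤ ((i k).locus b) (fun _ _ => trivial) k.1 * t k l := fun k l => ht k l
  have hinter : ∀ k l, (i k).locus b ⊓ (i l).locus b = Y.basicOpen (t k l) := by
    intro k l
    refine le_antisymm (fun y hy => ?_) (le_inf (Y.basicOpen_le _) (le_locus ?_))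
    · obtain ⟨_, ⟨(V : Y.Opens), hV, rfl⟩, hyV, hVle : V ≤ (i k).locus b ⊓ (i l).locus b⟩ :=
        Y.isBasis_affineOpens.exists_subset_of_mem_open hy ((i k).locus b ⊓ (i l).locus b).isOpen
      have hk := isEqn_restrict hCn (heqn k) ⟨V, hV⟩ (hVle.trans inf_le_left)
      have hl := isEqn_restrict hCn (heqn l) ⟨V, hV⟩ (hVle.trans inf_le_right)
      rw [hres] at hk hl
      obtain ⟨z, hz⟩ := Ideal.mem_span_singleton.mp
        ((hk.ideal_eq.symm.trans hl.ideal_eq).le (Ideal.subset_span rfl))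
      have hl' := congrArg (Y.presheaf.map (homOfLE (hVle.trans inf_le_left)).op) (htk k l)
      rw [map_mul, hres, hres] at hl'
      have hu : IsUnit (Y.presheaf.map (homOfLE (hVle.trans inf_le_left)).op (t k l)) := by
        refine IsUnit.of_mul_eq_one z ((mul_cancel_left_mem_nonZeroDivisors hk.mem).mp ?_)
        rw [← mul_assoc, ← hl', ← hz, mul_one]
      have h3 : y ∈ Y.basicOpen (Y.presheaf.map (homOfLE (hVle.trans inf_le_left)).op (t k l)) := by
        rw [Scheme.basicOpen_of_isUnit _ hu]; exact hyV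
      rw [Scheme.basicOpen_res] at h3
      exact h3.2
    · exact mem_basicOpen_ι (i l) hb.1 (V := ⟨(i k).locus b, isAffineOpen_locus hb (i k)⟩) (fun _ _ => trivial)
        (heqn k) (t k l) (htk k l)
  refine IsChartData.isProper (W := fun k => (i k).locus b) (t := t) ⟨fun k => isAffineOpen_locus hb _, ?_, fun k => ?_,
    hinter, fun k j m => ?_, fun k P hP ht' => ?_⟩
  · refine top_le_iff.mp fun y _ => Opens.mem_iSup.mpr ?_
    obtain ⟨V, hyV, e, he⟩ := EffCartier.isEffCartierIdeal_iff.mp hCn y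
    have hdvd : ∀ k : s, e ∣ b.appLE ⊤ V.1 (fun _ _ => trivial) k.1 := fun k => by
      rw [← Ideal.mem_span_singleton, ← he.ideal_eq, EffCartier.comap_ideal _ b ⟨⊤, isAffineOpen_top X⟩ V (fun _ _ => trivial)]
      exact Ideal.mem_map_of_mem _ (hs' k)
    choose z hz using hdvd
    have hemem : e ∈ Ideal.span (Set.range fun k : s => b.appLE ⊤ V.1 (fun _ _ => trivial) k.1) := by
      have h1 : e ∈ ((C ^ (0 + 1)).comap b).ideal V := by rw [he.ideal_eq]; exact Ideal.subset_span rfl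
      rw [EffCartier.comap_ideal _ b ⟨⊤, isAffineOpen_top X⟩ V (fun _ _ => trivial), zero_add, pow_one, ← hs,
        Ideal.map_span] at h1
      refine Ideal.span_mono ?_ h1
      rintro _ ⟨a, ha, rfl⟩
      exact ⟨⟨a, ha⟩, rfl⟩
    obtain ⟨r, hr⟩ := (Ideal.mem_span_range_iff_exists_fun).mp hemem
    have h1 : ∑ k, r k * z k = 1 := (mul_cancel_left_mem_nonZeroDivisors he.mem).mp (by
      rw [mul_one, Finset.mul_sum]
      exact (Finset.sum_congr rfl fun k _ => by rw [hz k]; ring).trans hr)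
    have : ∃ k, y ∈ Y.basicOpen (z k) := by
      by_contra hne
      push Not at hne
      have hmem : Y.presheaf.germ V.1 y hyV (∑ k, r k * z k) ∈ IsLocalRing.maximalIdeal _ := by
        rw [map_sum]
        refine sum_mem fun k _ => ?_
        rw [map_mul]
        exact Ideal.mul_mem_left _ _ fun hu => hne k ((Scheme.mem_basicOpen _ _ _ hyV).mpr hu)
      rw [h1, map_one] at hmem
      exact (IsLocalRing.notMem_maximalIdeal.mpr isUnit_one) hmem
    obtain ⟨k, hk⟩ := this
    exact ⟨k, le_locus (mem_basicOpen_ι (i k) hb.1 (V := V) (fun _ _ => trivial) he (z k) (hz k)) hk⟩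
  · exact ((mul_cancel_left_mem_nonZeroDivisors (heqn k).mem).mp (by rw [mul_one, ← htk k k])).symm |>.symm
  · have haff : IsAffineOpen ((i k).locus b ⊓ (i j).locus b) := by
      rw [hinter]; exact (isAffineOpen_locus hb (i k)).basicOpen _
    have hm := isEqn_restrict hCn (heqn k) ⟨_, haff⟩ inf_le_left
    rw [hres] at hm
    refine (mul_cancel_left_mem_nonZeroDivisors hm.mem).mp ?_
    have h1 := congrArg (Y.presheaf.map (homOfLE (inf_le_left : (i k).locus b ⊓ (i j).locus b ≤ _)).op) (htk k j)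
    have h2 := congrArg (Y.presheaf.map (homOfLE (inf_le_right : (i k).locus b ⊓ (i j).locus b ≤ _)).op) (htk j m)
    have h3 := congrArg (Y.presheaf.map (homOfLE (inf_le_left : (i k).locus b ⊓ (i j).locus b ≤ _)).op) (htk k m)
    rw [map_mul, hres, hres] at h1 h2 h3
    rw [← mul_assoc, ← h1, ← h2, h3]
  · obtain ⟨φ, hφs, hφ⟩ := exists_ringEquiv_locus hb (i k)
    rw [eq_top_iff]
    rintro x -
    obtain ⟨⟨q, hq⟩, rfl⟩ := hφs x
    have hbase : ∀ a, b.appLE ⊤ ((i k).locus b) (fun _ _ => trivial) a ∈ P := fun a => hP ⟨a, rfl⟩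
    induction hq using Algebra.adjoin_induction with
    | algebraMap a => change φ (algebraMap _ _ a) ∈ P; rw [hφ]; exact hbase _
    | add p q hp hq ihp ihq =>
      rw [show (⟨p + q, _⟩ : BlowUp.affineAlgebra _ _ _) = ⟨p, hp⟩ + ⟨q, hq⟩ from rfl, map_add]
      exact P.add_mem ihp ihq
    | mul p q hp hq ihp ihq =>
      rw [show (⟨p * q, _⟩ : BlowUp.affineAlgebra _ _ _) = ⟨p, hp⟩ * ⟨q, hq⟩ from rfl, map_mul]
      exact P.mul_mem ihp ihq
    | mem q hq =>
      obtain ⟨x, hx, rfl⟩ := hq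
      have hkey : φ (algebraMap _ _ (i k).sec) *
          φ ⟨IsLocalization.mk' (Localization.Away (i k).sec) x ⟨(i k).sec, Submonoid.mem_powers _⟩,
            Algebra.subset_adjoin ⟨x, hx, rfl⟩⟩ = φ (algebraMap _ _ x) := by
        rw [← map_mul]
        exact congrArg φ (Subtype.ext (IsLocalization.mk'_spec' (Localization.Away (i k).sec) x
          ⟨(i k).sec, Submonoid.mem_powers _⟩))
      rw [hφ, hφ] at hkey
      have hsec : (i k).U.1.topIso.hom (i k).sec = k.1 := Iso.inv_hom_id_apply (i k).U.1.topIso k.1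
      rw [hsec] at hkey
      have hx' : (i k).U.1.topIso.hom x ∈ Ideal.span (↑s : Set Γ(X, ⊤)) := by
        have h1 : x ∈ ((C ^ ((i k).n + 1)).ideal (i k).U).map (i k).U.1.topIso.inv.hom := by
          rw [← J_ideal_top]; exact hx
        obtain ⟨x', hx', rfl⟩ := (Ideal.mem_map_iff_of_surjective _ (ConcreteCategory.bijective_of_isIso _).2).mp h1
        rw [Iso.inv_hom_id_apply]
        change x' ∈ (C ^ (0 + 1)).ideal ⟨⊤, isAffineOpen_top X⟩ at hx'
        rwa [zero_add, pow_one, ← hs] at hx'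
      obtain ⟨c, hc⟩ := (Submodule.mem_span_iff_of_fintype).mp hx'
      have heq : φ ⟨_, Algebra.subset_adjoin ⟨x, hx, rfl⟩⟩ =
          ∑ l : s, b.appLE ⊤ ((i k).locus b) (fun _ _ => trivial) (c l) * t k l := by
        refine (mul_cancel_left_mem_nonZeroDivisors (heqn k).mem).mp (hkey.trans ?_)
        show b.appLE ⊤ ((i k).locus b) (fun _ _ => trivial) _ = _
        rw [← hc, map_sum, Finset.mul_sum]
        refine Finset.sum_congr rfl fun l _ => ?_
        rw [smul_eq_mul, map_mul, htk k l]; ring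
      rw [heq]
      exact P.sum_mem fun l _ => P.mul_mem (hbase _) (ht' ⟨l, rfl⟩)

/-- The restriction of a blowing up to an open is a blowing up. -/
theorem isBlowUp_restrict (hb : BlowUp.IsBlowUp b C) (U : X.Opens) : BlowUp.IsBlowUp (b ∣_ U) (C.comap U.ι) := by
  refine ⟨?_, fun Z g hg => ?_⟩
  · rw [← comap_comp, morphismRestrict_ι, comap_comp]
    exact isEffCartierIdeal_comap_of_isOpenImmersion hb.1 _
  · rw [← comap_comp] at hg
    obtain ⟨h, hh, huniq⟩ := hb.2 Z (g ≫ U.ι) hg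
    have hr : Set.range h ⊆ Set.range (b ⁻¹ᵁ U).ι := by
      rintro _ ⟨z, rfl⟩
      rw [Scheme.Opens.range_ι]
      show b (h z) ∈ U
      rw [← Scheme.Hom.comp_apply, hh]
      exact (g z).2
    refine ⟨IsOpenImmersion.lift (b ⁻¹ᵁ U).ι h hr, ?_, fun h' hh' => ?_⟩
    · beta_reduce
      rw [← cancel_mono U.ι, Category.assoc, morphismRestrict_ι, IsOpenImmersion.lift_fac_assoc, hh]
    · rw [← cancel_mono (b ⁻¹ᵁ U).ι, IsOpenImmersion.lift_fac]
      refine huniq _ ?_
      beta_reduce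
      rw [Category.assoc, ← morphismRestrict_ι, ← Category.assoc, hh']

/-- Blowing up a centre of finite type is proper. -/
theorem isProper (hC : BlowUp.IsFiniteTypeIdeal C) (hb : BlowUp.IsBlowUp b C) : IsProper b := by
  refine (IsZariskiLocalAtTarget.iff_of_iSup_eq_top (P := @IsProper) (fun U : X.affineOpens => U.1)
    (iSup_affineOpens_eq_top X)).mpr fun U => ?_
  have : IsAffine U.1.toScheme := U.2
  refine isProper_of_affine ?_ (isBlowUp_restrict hb U.1)
  rw [EffCartier.comap_ideal C U.1.ι U ⟨⊤, isAffineOpen_top _⟩ (fun y _ => y.2)]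
  exact (hC U).map _

lemma isFiniteTypeIdeal_of_isEffCartierIdeal {I : X.IdealSheafData} (h : BlowUp.IsEffCartierIdeal I) :
    BlowUp.IsFiniteTypeIdeal I := EffCartier.fg_ideal h

end Groth.Agent.BlowUpExist
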