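import Groth.Agent.Lib.EffCartier.Dense
import Mathlib.AlgebraicGeometry.Cover.Open

/-!
# The affine blow-up chart and its universal property
-/

universe u

open CategoryTheory CategoryTheory.Limits AlgebraicGeometry

namespace Groth.Agent.BlowUpExist

open AlgebraicGeometry.Scheme.IdealSheafData

section Algebra

variable {A R : Type u} [CommRing A] [CommRing R] (I : Ideal A) (c : A)

lemma algebraMap_mem_nonZeroDivisors :
    algebraMap A (BlowUp.affineAlgebra A I c) c ∈ nonZeroDivisors (BlowUp.affineAlgebra A I c) := by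
  rw [mem_nonZeroDivisors_iff_right]
  intro z hz
  have hu : IsUnit (algebraMap A (Localization.Away c) c) := IsLocalization.Away.algebraMap_isUnit c
  have h := congrArg (fun w : BlowUp.affineAlgebra A I c => (w : Localization.Away c)) hz
  simp only [Subalgebra.coe_mul, Subalgebra.coe_zero, Subalgebra.coe_algebraMap] at h
  exact Subtype.ext (hu.mul_left_eq_zero.mp h)

lemma map_eq_span (hc : c ∈ I) :
    I.map (algebraMap A (BlowUp.affineAlgebra A I c)) = Ideal.span {algebraMap A (BlowUp.affineAlgebra A I c) c} := by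
  refine le_antisymm (Ideal.map_le_iff_le_comap.mpr fun x hx => ?_)
    ((Ideal.span_singleton_le_iff_mem _).mpr (Ideal.mem_map_of_mem _ hc))
  rw [Ideal.mem_comap, Ideal.mem_span_singleton]
  refine ⟨⟨IsLocalization.mk' (Localization.Away c) x ⟨c, Submonoid.mem_powers c⟩,
    Algebra.subset_adjoin ⟨x, hx, rfl⟩⟩, Subtype.ext ?_⟩
  simp only [Subalgebra.coe_mul, Subalgebra.coe_algebraMap]
  exact (IsLocalization.mk'_spec' (Localization.Away c) x ⟨c, Submonoid.mem_powers c⟩).symm

lemma existsUnique_lift (φ : A →+* R) (hnzd : φ c ∈ nonZeroDivisors R) (hI : I.map φ ≤ Ideal.span {φ c}) :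
    ∃! ψ : BlowUp.affineAlgebra A I c →+* R, ψ.comp (algebraMap A _) = φ := by
  let S := Localization.Away (φ c)
  let Φ : Localization.Away c →+* S := Localization.awayMap φ c
  have hΦ : ∀ a, Φ (algebraMap A _ a) = algebraMap R S (φ a) := fun a => IsLocalization.map_eq _ a
  have hinj : Function.Injective (algebraMap R S) :=
    IsLocalization.injective S (M := Submonoid.powers (φ c)) (Submonoid.powers_le.mpr hnzd)
  have hrange : ∀ q ∈ BlowUp.affineAlgebra A I c, Φ q ∈ (algebraMap R S).range := by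
    intro q hq
    induction hq using Algebra.adjoin_induction with
    | mem q hq =>
      obtain ⟨x, hx, rfl⟩ := hq
      obtain ⟨t, ht⟩ := Ideal.mem_span_singleton.mp (hI (Ideal.mem_map_of_mem φ hx))
      refine ⟨t, (IsLocalization.Away.algebraMap_isUnit (φ c)).mul_left_cancel (b := algebraMap R S t) ?_⟩
      rw [← map_mul, ← ht, ← hΦ c, ← map_mul,
        IsLocalization.mk'_spec' (Localization.Away c) x ⟨c, Submonoid.mem_powers c⟩, hΦ]
    | algebraMap a => exact ⟨φ a, (hΦ a).symm⟩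
    | add _ _ _ _ ha hb => rw [map_add]; exact add_mem ha hb
    | mul _ _ _ _ ha hb => rw [map_mul]; exact mul_mem ha hb
  let e := RingEquiv.ofLeftInverse (Function.leftInverse_invFun hinj)
  let ψ : BlowUp.affineAlgebra A I c →+* R := e.symm.toRingHom.comp
    ((Φ.comp (BlowUp.affineAlgebra A I c).val.toRingHom).codRestrict (algebraMap R S).range fun q => hrange q.1 q.2)
  have hψ : ∀ q, algebraMap R S (ψ q) = Φ q.1 := fun q => congrArg Subtype.val (e.apply_symm_apply _)
  refine ⟨ψ, RingHom.ext fun a => hinj ((hψ _).trans (hΦ a)), fun ψ' hψ' => RingHom.ext fun q => ?_⟩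
  obtain ⟨q, hq⟩ := q
  apply hinj
  rw [hψ]
  have h' : ∀ a, algebraMap R S (ψ' (algebraMap A _ a)) = Φ (algebraMap A _ a) := fun a => by
    rw [hΦ]; exact congrArg _ (RingHom.congr_fun hψ' a)
  induction hq using Algebra.adjoin_induction with
  | mem q hq =>
    obtain ⟨x, hx, rfl⟩ := hq
    have hu : IsUnit (Φ (algebraMap A _ c)) := (IsLocalization.Away.algebraMap_isUnit c).map Φ
    refine hu.mul_left_cancel ?_
    rw [← map_mul Φ, IsLocalization.mk'_spec' (Localization.Away c) x ⟨c, Submonoid.mem_powers c⟩, ← h' c, ← h' x,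
      ← map_mul, ← map_mul]
    congr 2
    exact Subtype.ext (IsLocalization.mk'_spec' (Localization.Away c) x ⟨c, Submonoid.mem_powers c⟩)
  | algebraMap a => exact h' a
  | add a b ha hb iha ihb =>
    rw [show (⟨a + b, _⟩ : BlowUp.affineAlgebra A I c) = ⟨a, ha⟩ + ⟨b, hb⟩ from rfl, map_add, map_add, iha, ihb]
    exact (map_add Φ a b).symm
  | mul a b ha hb iha ihb =>
    rw [show (⟨a * b, _⟩ : BlowUp.affineAlgebra A I c) = ⟨a, ha⟩ * ⟨b, hb⟩ from rfl, map_mul, map_mul, iha, ihb]
    exact (map_mul Φ a b).symm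

end Algebra

variable {X Y Z S : Scheme.{u}}

lemma isEffCartierIdeal_comap_of_isOpenImmersion {J : X.IdealSheafData} (hJ : BlowUp.IsEffCartierIdeal J)
    (j : Y ⟶ X) [IsOpenImmersion j] : BlowUp.IsEffCartierIdeal (J.comap j) := by
  have := EffCartier.dominant_cmpl hJ
  have := EffCartier.quasiCompact_interior hJ
  have := EffCartier.dominant_preimage j (EffCartier.cmpl J)
  exact EffCartier.comap_of_dominant hJ j

variable [IsAffine S] (J : S.IdealSheafData) (c : Γ(S, ⊤))

/-- The ideal sheaf generated by a global function on an affine scheme. -/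
noncomputable abbrev principal : S.IdealSheafData := ofIdealTop (Ideal.span {c})

/-- The condition corepresented by the chart. -/
def ChartCond (h : Y ⟶ S) : Prop :=
  BlowUp.IsEffCartierIdeal (J.comap h) ∧ (principal c).comap h = J.comap h

/-- The chart of the blow-up of `J` at `c`. -/
noncomputable abbrev chart : Scheme.{u} :=
  Spec (CommRingCat.of (BlowUp.affineAlgebra Γ(S, ⊤) (J.ideal ⟨⊤, isAffineOpen_top S⟩) c))

/-- The structure morphism of the chart. -/
noncomputable def chartπ : chart J c ⟶ S :=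
  Spec.map (CommRingCat.ofHom (algebraMap Γ(S, ⊤)
    (BlowUp.affineAlgebra Γ(S, ⊤) (J.ideal ⟨⊤, isAffineOpen_top S⟩) c))) ≫ S.isoSpec.inv

lemma chartπ_appTop : (chartπ J c).appTop ≫ (Scheme.ΓSpecIso _).hom = CommRingCat.ofHom (algebraMap Γ(S, ⊤)
    (BlowUp.affineAlgebra Γ(S, ⊤) (J.ideal ⟨⊤, isAffineOpen_top S⟩) c)) := by
  have h1 : S.isoSpec.inv.appTop = (Scheme.ΓSpecIso Γ(S, ⊤)).inv := by
    have : S.isoSpec.hom.appTop = (Scheme.ΓSpecIso Γ(S, ⊤)).hom := by simp [Scheme.isoSpec]
    have hmono : Mono S.isoSpec.hom.appTop := by rw [this]; infer_instance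
    rw [← cancel_mono S.isoSpec.hom.appTop, ← Scheme.Hom.comp_appTop, S.isoSpec.hom_inv_id, this]
    simp
  rw [chartπ, Scheme.Hom.comp_appTop, h1, Category.assoc, Scheme.ΓSpecIso_naturality]
  erw [Iso.inv_hom_id_assoc]

lemma ideal_principal_comap_top [IsAffine Y] (h : Y ⟶ S) :
    ((principal c).comap h).ideal ⟨⊤, isAffineOpen_top Y⟩ = Ideal.span {h.appTop c} := by
  rw [EffCartier.comap_ideal_top]
  simp only [principal, ofIdealTop_ideal]
  erw [CategoryTheory.Functor.map_id]
  rw [CommRingCat.hom_id, Ideal.map_id, Ideal.map_span, Set.image_singleton]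

lemma chartCond_iff [IsAffine Y] (h : Y ⟶ S) :
    ChartCond J c h ↔ h.appTop c ∈ nonZeroDivisors Γ(Y, ⊤) ∧
      (J.ideal ⟨⊤, isAffineOpen_top S⟩).map h.appTop.hom = Ideal.span {h.appTop c} := by
  rw [← ideal_principal_comap_top c h, ← EffCartier.comap_ideal_top]
  constructor
  · rintro ⟨hEC, heq⟩
    refine ⟨EffCartier.mem_nonZeroDivisors_of_ideal_eq hEC ⟨⊤, isAffineOpen_top Y⟩ _ ?_, by rw [heq]⟩
    rw [← heq]; exact ideal_principal_comap_top c h
  · rintro ⟨hm, heq⟩
    refine ⟨EffCartier.isEffCartierIdeal_iff.mpr fun y => ⟨⟨⊤, isAffineOpen_top Y⟩, trivial, h.appTop c, hm, ?_⟩,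
      (ext_of_isAffine heq).symm⟩
    rw [heq]; exact ideal_principal_comap_top c h

lemma chartCond_chartπ (hc : c ∈ J.ideal ⟨⊤, isAffineOpen_top S⟩) : ChartCond J c (chartπ J c) := by
  rw [chartCond_iff]
  let B := CommRingCat.of (BlowUp.affineAlgebra Γ(S, ⊤) (J.ideal ⟨⊤, isAffineOpen_top S⟩) c)
  let e := (Scheme.ΓSpecIso B).commRingCatIsoToRingEquiv
  have hf : (chartπ J c).appTop.hom = e.symm.toRingHom.comp (algebraMap Γ(S, ⊤) B) := by
    have h := congrArg (fun f => f ≫ (Scheme.ΓSpecIso B).inv) (chartπ_appTop J c)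
    simp only [Category.assoc, B, Iso.hom_inv_id, Category.comp_id] at h
    exact congrArg CommRingCat.Hom.hom h
  constructor
  · show (chartπ J c).appTop.hom c ∈ _
    rw [hf, mem_nonZeroDivisors_iff_right]
    intro z hz
    have hz' := congrArg e hz
    rw [map_mul, map_zero] at hz'
    have h' : e z * algebraMap Γ(S, ⊤) B c = 0 := by
      refine Eq.trans ?_ hz'
      congr 1
      exact (e.apply_symm_apply _).symm
    exact e.injective (((mem_nonZeroDivisors_iff_right.mp
      (algebraMap_mem_nonZeroDivisors (J.ideal ⟨⊤, isAffineOpen_top S⟩) c)) _ h').trans (map_zero e).symm)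
  · show _ = Ideal.span {(chartπ J c).appTop.hom c}
    rw [hf, ← Ideal.map_map, map_eq_span _ c hc, Ideal.map_span, Set.image_singleton]
    rfl

lemma chartCond_comp {h : Y ⟶ S} (hh : ChartCond J c h) (j : Z ⟶ Y)
    (hj : BlowUp.IsEffCartierIdeal (J.comap (j ≫ h))) : ChartCond J c (j ≫ h) :=
  ⟨hj, by rw [comap_comp, comap_comp, hh.2]⟩

lemma chartCond_restrict {h : Y ⟶ S} (hh : ChartCond J c h) (j : Z ⟶ Y) [IsOpenImmersion j] :
    ChartCond J c (j ≫ h) :=
  chartCond_comp J c hh j (by rw [comap_comp]; exact isEffCartierIdeal_comap_of_isOpenImmersion hh.1 j)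

lemma existsUnique_chart_lift_affine [IsAffine Y] (h : Y ⟶ S) (hh : ChartCond J c h) :
    ∃! k : Y ⟶ chart J c, k ≫ chartπ J c = h := by
  obtain ⟨hm, heq⟩ := (chartCond_iff J c h).mp hh
  obtain ⟨ψ, hψ, huniq⟩ := existsUnique_lift (J.ideal ⟨⊤, isAffineOpen_top S⟩) c h.appTop.hom hm heq.le
  let B := CommRingCat.of (BlowUp.affineAlgebra Γ(S, ⊤) (J.ideal ⟨⊤, isAffineOpen_top S⟩) c)
  have key : ∀ k : Y ⟶ chart J c, (k ≫ chartπ J c).appTop =
      CommRingCat.ofHom (algebraMap Γ(S, ⊤) B) ≫ (Scheme.ΓSpecIso B).inv ≫ k.appTop := by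
    intro k
    rw [Scheme.Hom.comp_appTop, ← chartπ_appTop J c]
    simp only [B, Category.assoc, Iso.hom_inv_id_assoc]
  let k₀ : Y ⟶ chart J c := Y.isoSpec.hom ≫ Spec.map (CommRingCat.ofHom ψ)
  have hk₀ : (Scheme.ΓSpecIso B).inv ≫ k₀.appTop = CommRingCat.ofHom ψ := by
    have : Y.isoSpec.hom.appTop = (Scheme.ΓSpecIso Γ(Y, ⊤)).hom := by simp [Scheme.isoSpec]
    rw [show k₀ = Y.isoSpec.hom ≫ Spec.map (CommRingCat.ofHom ψ) from rfl, Scheme.Hom.comp_appTop, this]
    erw [Scheme.ΓSpecIso_naturality, Iso.inv_hom_id_assoc]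
  refine ⟨k₀, ext_of_isAffine ?_, fun k hk => ext_of_isAffine ?_⟩
  · rw [key, hk₀]; exact CommRingCat.hom_ext hψ
  · have h1 : ((Scheme.ΓSpecIso B).inv ≫ k.appTop).hom = ψ := by
      refine huniq _ ?_
      show (CommRingCat.ofHom (algebraMap Γ(S, ⊤) B) ≫ ((Scheme.ΓSpecIso B).inv ≫ k.appTop)).hom = h.appTop.hom
      rw [← key, hk]
    rw [← cancel_epi (Scheme.ΓSpecIso B).inv, hk₀]
    exact CommRingCat.hom_ext h1

lemma chart_hom_ext {h : Y ⟶ S} (hh : ChartCond J c h) {k k' : Y ⟶ chart J c} (hk : k ≫ chartπ J c = h)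
    (hk' : k' ≫ chartπ J c = h) : k = k' := by
  refine Scheme.Cover.hom_ext Y.affineCover _ _ fun i => ?_
  refine (existsUnique_chart_lift_affine J c (Y.affineCover.f i ≫ h)
    (chartCond_restrict J c hh _)).unique ?_ ?_
  · rw [Category.assoc, hk]
  · rw [Category.assoc, hk']

lemma existsUnique_chart_lift (h : Y ⟶ S) (hh : ChartCond J c h) :
    ∃! k : Y ⟶ chart J c, k ≫ chartπ J c = h := by
  choose l hl hl' using fun i => existsUnique_chart_lift_affine J c (Y.affineCover.f i ≫ h)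
    (chartCond_restrict J c hh _)
  have hcomp : ∀ i j, pullback.fst (Y.affineCover.f i) (Y.affineCover.f j) ≫ l i =
      pullback.snd (Y.affineCover.f i) (Y.affineCover.f j) ≫ l j := by
    intro i j
    refine chart_hom_ext J c (chartCond_restrict J c hh
      (pullback.fst (Y.affineCover.f i) (Y.affineCover.f j) ≫ Y.affineCover.f i)) ?_ ?_
    · rw [Category.assoc, hl, Category.assoc]
    · rw [Category.assoc, hl, ← Category.assoc, pullback.condition]
  refine ⟨Scheme.Cover.glueMorphisms Y.affineCover l hcomp, ?_, fun k hk => ?_⟩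
  · refine Scheme.Cover.hom_ext Y.affineCover _ _ fun i => ?_
    rw [Scheme.Cover.ι_glueMorphisms_assoc, hl]
  · refine Scheme.Cover.hom_ext Y.affineCover _ _ fun i => ?_
    rw [Scheme.Cover.ι_glueMorphisms]
    exact hl' i _ (by beta_reduce; rw [Category.assoc, hk])

end Groth.Agent.BlowUpExist
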